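import Groth.Agent.CycB.ClosSheaf
import Groth.Agent.CohqB.DevSimple
import Groth.Agent.CohqB.DevSupport
import Groth.Agent.DEquiv.K160.CohHeart
import Groth.Prelude.Def_SGA6
import Groth.Prelude.Def_Models

/-!
# Skyscraper sheaves at closed points; zero-dimensional coherent modules

* `IsZD M`: `M` is coherent, with finite support consisting of closed points;
* `isZD_sky`: the skyscraper sheaf `κ(x)` at a closed point `x`;
* `isPerfect_inD`: on a regular Noetherian scheme coherent modules are perfect;
* closure of `IsZD` under subobjects, quotients and isomorphisms.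
-/

set_option autoImplicit false
universe u
open CategoryTheory CategoryTheory.Limits AlgebraicGeometry
attribute [local instance] HasDerivedCategory.standard

namespace K352.Sky

open Groth.Agent

/-- The skyscraper sheaf at a point. -/
noncomputable abbrev sky (X : Scheme.{u}) (x : X) : X.Modules :=
  (Coh.push (X.fromSpecResidueField x)).obj (Coh.structureModule _)

variable {X : Scheme.{u}}

theorem isCoh_sky [IsLocallyNoetherian X] (x : X) (hx : IsClosed ({x} : Set X)) : Coh.IsCoh (sky X x) :=
  have : IsClosedImmersion (X.fromSpecResidueField x) := isClosed_singleton_iff_isClosedImmersion.1 hx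
  CycB.ClosSheaf.isCoh_push_structureModule _

theorem support_sky_subset (x : X) (hx : IsClosed ({x} : Set X)) : CohB1.support (sky X x) ⊆ {x} := by
  have : IsClosedImmersion (X.fromSpecResidueField x) := isClosed_singleton_iff_isClosedImmersion.1 hx
  have h := CohqB.DevSimple.support_push_subset_range (X.fromSpecResidueField x) (Coh.structureModule _)
  rwa [Scheme.range_fromSpecResidueField] at h

theorem mem_support_unit (x : X) : x ∈ CohB1.support (Coh.structureModule X) := by
  intro h
  have h1 : Subsingleton (X.presheaf.stalk x) :=
    (CycB.PushStalk.unitStalk X x).toEquiv.subsingleton_congr.2 h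
  exact not_subsingleton _ h1

theorem support_sky_nonempty (x : X) (hx : IsClosed ({x} : Set X)) : (CohB1.support (sky X x)).Nonempty := by
  have : IsClosedImmersion (X.fromSpecResidueField x) := isClosed_singleton_iff_isClosedImmersion.1 hx
  rw [CohqB.DevSimple.support_push]
  obtain ⟨y⟩ : Nonempty (Spec (X.residueField x)) := inferInstance
  exact ⟨_, y, mem_support_unit y, rfl⟩

/-- Coherent modules with finite support consisting of closed points. -/
structure IsZD (M : X.Modules) : Prop where
  isCoh : Coh.IsCoh M
  fin : (CohB1.support M).Finite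
  closed : ∀ x ∈ CohB1.support M, IsClosed ({x} : Set X)

theorem isZD_sky [IsLocallyNoetherian X] (x : X) (hx : IsClosed ({x} : Set X)) : IsZD (sky X x) where
  isCoh := isCoh_sky x hx
  fin := (Set.finite_singleton x).subset (support_sky_subset x hx)
  closed y hy := by
    obtain rfl := support_sky_subset x hx hy
    exact hx

theorem IsZD.of_iso {M N : X.Modules} (e : M ≅ N) (h : IsZD M) : IsZD N where
  isCoh := PerfA.CohSerre.isCoh_of_iso e h.isCoh
  fin := by rw [← CohqB.DevSupport.support_congr e]; exact h.fin
  closed := by rw [← CohqB.DevSupport.support_congr e]; exact h.closed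

theorem IsZD.of_subset {M N : X.Modules} (h : IsZD M) (hN : Coh.IsCoh N)
    (hs : CohB1.support N ⊆ CohB1.support M) : IsZD N where
  isCoh := hN
  fin := h.fin.subset hs
  closed x hx := h.closed x (hs hx)

theorem IsZD.of_epi {M N : X.Modules} (h : IsZD M) (f : M ⟶ N) [Epi f] (hN : Coh.IsCoh N) : IsZD N :=
  h.of_subset hN (CohqB.DevSupport.support_subset_of_epi f)

theorem IsZD.of_mono {M N : X.Modules} (h : IsZD M) (f : N ⟶ M) [Mono f] (hN : Coh.IsCoh N) : IsZD N :=
  h.of_subset hN (CohqB.DevSupport.support_subset_of_mono f)

/-- On a regular Noetherian scheme coherent modules are perfect. -/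
theorem isPerfect_inD [IsNoetherian X] (hreg : Models.IsRegularScheme X) {M : X.Modules} (hM : Coh.IsCoh M) :
    DCoh.IsPerfect (DCoh.inD X M) := by
  exact K160.HeartAbs.prop_single (K160.CohHeart.perf_iff X hreg) M hM

/-- A scheme proper over a field is Noetherian. -/
theorem isNoetherian (k : Type u) [Field k] (X : Scheme.{u}) [X.Over (Spec (CommRingCat.of k))]
    [IsProper (X ↘ Spec (CommRingCat.of k))] : IsNoetherian X := by
  have h1 : IsLocallyNoetherian X := LocallyOfFiniteType.isLocallyNoetherian (X ↘ Spec (CommRingCat.of k))
  have h2 : CompactSpace X := QuasiCompact.compactSpace_of_compactSpace (X ↘ Spec (CommRingCat.of k))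
  exact { }

end K352.Sky
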