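import Groth.Agent.DEquiv.K352.HomFin
import Groth.Agent.PerfB.ProjBeil
import Groth.Agent.PerfA.PerfTri
import Groth.Agent.PerfB.StructFlat
import Groth.Agent.Ega3B.CohTensor
import Groth.Agent.S1020
import Groth.Agent.S1039
import Groth.Agent.S1001

/-!
# `D^b_Coh(P^n_k)` in terms of the cohomology of the twists, on `CohB1.ProjSpace n k`
-/

set_option autoImplicit false

universe u

open CategoryTheory CategoryTheory.Limits AlgebraicGeometry Opposite TopologicalSpace Pretriangulated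
  ZeroObject
attribute [local instance] HasDerivedCategory.standard

namespace K352.Pn

open Groth.Agent.Dcoh.DerSch
open Groth.Agent.PerfA Groth.Agent.PerfA.Hyp1 Groth.Agent.PerfA.Restrict
open Groth.Agent.PerfB Groth.Agent.PerfB.TwistDer Groth.Agent.PerfB.PcDev Groth.Agent.PerfB.TensD
  Groth.Agent.PerfB.ProjPush Groth.Agent.PerfB.ProjBeil Groth.Agent.PerfB.FlatPull

attribute [local instance] rpushCommShift rpush_isTriangulated

variable (n : ℕ) (k : Type u) [Field k]

theorem exists_gen (m : ℕ) : ∃ G : DCoh.D (CohB1.ProjSpace n k), DCoh.IsPerfect G ∧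
    ∀ (E : DCoh.D (CohB1.ProjSpace n k)) (j : ℤ), (∀ φ : G⟦j⟧ ⟶ E, φ = 0) ↔
      ∀ d : ℕ, d < m → ∀ φ : (DCoh.inD (CohB1.ProjSpace n k) (tw n k (-(d : ℤ))))⟦j⟧ ⟶ E, φ = 0 := by
  induction m with
  | zero =>
    refine ⟨0, PerfLocal.isPerfect_of_isZero (isZero_zero _), fun E j => ⟨fun _ d hd => absurd hd (by omega),
      fun _ φ => ?_⟩⟩
    exact ((shiftFunctor _ j).map_isZero (isZero_zero _)).eq_of_src _ _
  | succ m ih =>
    obtain ⟨G, hG, h⟩ := ih
    let H := DCoh.inD (CohB1.ProjSpace n k) (tw n k (-(m : ℤ)))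
    have hH : DCoh.IsPerfect H := PerfLocal.isPerfect_inD_of_isFinLocFree
      (Groth.Agent.Ega2.QCohLocal.isFinLocFree_of_rank (Groth.Agent.Ega2.QCohLocal.isFinLocFreeOfRank_one_iff.mpr (isInvertible_tw n k _)))
    refine ⟨G ⊞ H, (PerfTri.perf _).ext_of_isTriangulatedClosed₂ _ (binaryBiproductTriangle_distinguished G H) hG hH,
      fun E j => ?_⟩
    constructor
    · intro h1 d hd φ
      rcases Nat.lt_succ_iff_lt_or_eq.mp hd with hd | rfl
      · refine (h E j).1 (fun ψ => ?_) d hd φ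
        have h2 := h1 ((shiftFunctor _ j).map biprod.fst ≫ ψ)
        rw [← cancel_epi ((shiftFunctor _ j).map (biprod.fst : G ⊞ H ⟶ G)), h2, comp_zero]
      · have h2 := h1 ((shiftFunctor _ j).map biprod.snd ≫ φ)
        rw [← cancel_epi ((shiftFunctor _ j).map (biprod.snd : G ⊞ H ⟶ H)), h2, comp_zero]
    · intro h1 φ
      have h2 : (shiftFunctor _ j).map (biprod.inl : G ⟶ G ⊞ H) ≫ φ = 0 :=
        (h E j).2 (fun d hd => h1 d (by omega)) _
      have h3 : (shiftFunctor _ j).map (biprod.inr : H ⟶ G ⊞ H) ≫ φ = 0 := h1 m (by omega) _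
      have h4 : 𝟙 ((G ⊞ H)⟦j⟧) = (shiftFunctor _ j).map (biprod.fst : G ⊞ H ⟶ G) ≫
          (shiftFunctor _ j).map biprod.inl + (shiftFunctor _ j).map (biprod.snd : G ⊞ H ⟶ H) ≫
          (shiftFunctor _ j).map biprod.inr := by
        rw [← Functor.map_comp, ← Functor.map_comp, ← Functor.map_add, biprod.total,
          CategoryTheory.Functor.map_id]
      rw [← Category.id_comp φ, h4, Preadditive.add_comp, Category.assoc, Category.assoc, h2, h3,
        comp_zero, comp_zero, add_zero]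

theorem cohb_tw {K : DCoh.D (CohB1.ProjSpace n k)} (h : SGA6.cohbP _ K) (d : ℤ) :
    SGA6.cohbP _ ((twD n k d).obj K) := by
  obtain ⟨h1, a, b, ha, hb⟩ := h
  refine ⟨fun i => ?_, a, b, ExactD.isGE_map _ K a, ExactD.isLE_map _ K b⟩
  exact Groth.Agent.Sga67.CohBasic.isCoh_of_iso ((ExactD.mapHomology (twM n k d) i).app K).symm
    (Groth.Agent.Ega3B.CohTensor.isCoh_tensor (h1 i) (isInvertible_tw n k d))

/-- The condition on the cohomology groups of an object. -/
def Fin (L : DCoh.D (CohB1.ProjSpace n k)) : Prop :=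
  (∀ i : ℤ, Module.Finite k (DCoh.inD (CohB1.ProjSpace n k) (Coh.structureModule _) ⟶ L⟦i⟧)) ∧
    Set.Finite {i : ℤ | Nontrivial (DCoh.inD (CohB1.ProjSpace n k) (Coh.structureModule _) ⟶ L⟦i⟧)}

instance : Flat ((CohB1.ProjSpace n k) ↘ Spec (CommRingCat.of k)) := flat_toSpec n k
instance : IsProper ((CohB1.ProjSpace n k) ↘ Spec (CommRingCat.of k)) := isProper_toSpec n k
noncomputable local instance : DCoh.HasRpush ((CohB1.ProjSpace n k) ↘ Spec (CommRingCat.of k)) := hasRpush _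
local instance : DCoh.HasRpush (pr n k) := hasRpush _

instance : IsNoetherian (Spec (CommRingCat.of k)) := inferInstance

instance isNoeth : IsNoetherian (CohB1.ProjSpace n k) := by
  have : IsLocallyNoetherian (CohB1.ProjSpace n k) := LocallyOfFiniteType.isLocallyNoetherian
    ((CohB1.ProjSpace n k) ↘ Spec (CommRingCat.of k))
  have : CompactSpace (CohB1.ProjSpace n k) := QuasiCompact.compactSpace_of_compactSpace
    ((CohB1.ProjSpace n k) ↘ Spec (CommRingCat.of k))
  exact {}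

theorem fin_of_cohb {L : DCoh.D (CohB1.ProjSpace n k)} (h : SGA6.cohbP _ L) : Fin n k L := by
  obtain ⟨h1, a, b, ha, hb⟩ := h
  have hq : DCoh.IsQCohD ((DCoh.Rpush ((CohB1.ProjSpace n k) ↘ Spec (CommRingCat.of k))).obj L) :=
    Groth.Agent.S0998.result _ _ (fun i => (h1 i).1)
  obtain ⟨h2, h3, b', h4⟩ := Groth.Agent.S1001.result ((CohB1.ProjSpace n k) ↘ Spec (CommRingCat.of k))
    L a b h1 (fun i => StructFlat.isProperOver_of_isProper _ _
      (Groth.Agent.FormalA.Support.isClosed_support _ (h1 i).2))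
  refine ⟨fun i => (HomFin.finite_hom_iff L hq i).2 (h2 i), ?_⟩
  refine (Set.finite_Icc a b').subset fun i hi => ?_
  have h5 := (HomFin.nontrivial_hom_iff L hq i).1 hi
  constructor
  · by_contra h6
    exact h5 ((DerivedCategory.isGE_iff _ a).1 h3 i (by omega))
  · by_contra h6
    exact h5 ((DerivedCategory.isLE_iff _ b').1 h4 i (by omega))

theorem cohb_of_fin {K : DCoh.D (CohB1.ProjSpace n k)} (hK : DCoh.IsQCohD K)
    (h : ∀ d : ℕ, d ≤ n → Fin n k ((twD n k d).obj K)) : SGA6.cohbP _ K := by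
  have hq : ∀ d : ℕ, DCoh.IsQCohD ((DCoh.Rpush ((CohB1.ProjSpace n k) ↘ Spec (CommRingCat.of k))).obj
    ((twD n k d).obj K)) := fun d => Groth.Agent.S0998.result _ _ (isQCohD_tw n k d hK)
  have hpc : PC K := by
    refine pc_of_twists n k hK fun d hd m => ?_
    refine (Groth.Agent.S1039.result _ _ (hq d) m).2 ⟨fun i _ =>
      (HomFin.finite_hom_iff _ (hq d) i).1 ((h d hd).1 i), ?_⟩
    obtain ⟨b, hb⟩ := (h d hd).2.bddAbove
    refine ⟨b, (DerivedCategory.isLE_iff _ b).2 fun i hi => ?_⟩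
    by_contra h1
    have := hb ((HomFin.nontrivial_hom_iff _ (hq d) i).2 h1)
    omega
  have hcoh : DCoh.IsCohD K := fun i => ((Groth.Agent.S1039.result _ K hK i).1 (hpc i)).1 i le_rfl
  obtain ⟨b, hb⟩ := hpc.exists_isLE
  obtain ⟨G, hG, hGE⟩ := exists_gen n k (n + 1)
  have hgen : ∀ E : DCoh.D (CohB1.ProjSpace n k), DCoh.IsQCohD E → (∀ (n : ℤ) (φ : G⟦n⟧ ⟶ E), φ = 0) →
      IsZero E := by
    intro E hE h1
    refine Groth.Agent.S1067.result n k E hE fun d hd m φ => ?_
    exact (hGE E m).1 (h1 m) d (by omega) φ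
  obtain ⟨a, ha⟩ : ∃ a : ℤ, K.IsGE a := by
    rw [Groth.Agent.S1020.result _ G hG hgen K hK]
    have hb : ∀ d : ℕ, d ≤ n → ∃ N : ℤ, ∀ i : ℤ, i ≤ N →
        ¬ Nontrivial (DCoh.inD (CohB1.ProjSpace n k) (Coh.structureModule _) ⟶ ((twD n k d).obj K)⟦i⟧) := by
      intro d hd
      obtain ⟨a, ha⟩ := (h d hd).2.bddBelow
      refine ⟨a - 1, fun i hi hn => ?_⟩
      have := ha hn
      omega
    choose N hN using hb
    obtain ⟨M, hM⟩ : ∃ M : ℤ, ∀ d (hd : d ≤ n), M ≤ N d hd := by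
      have : Finite {d : ℕ // d ≤ n} := Set.finite_coe_iff.2 (Set.finite_le_nat n)
      obtain ⟨M, hM⟩ := (Set.finite_range (fun d : {d : ℕ // d ≤ n} => N d.1 d.2)).bddBelow
      exact ⟨M, fun d hd => hM ⟨⟨d, hd⟩, rfl⟩⟩
    refine ⟨M, fun i hi φ => ?_⟩
    revert φ
    rw [hGE K (-i)]
    intro d hd φ
    have hd' : d ≤ n := by omega
    have h0 := hN d hd' i (hi.trans (hM d hd'))
    rw [not_nontrivial_iff_subsingleton] at h0
    have : (twD n k d).Faithful := inferInstanceAs ((twDEquiv n k d).functor.Faithful)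
    apply (twD n k d).map_injective
    rw [Functor.map_zero]
    let e : (DCoh.inD (CohB1.ProjSpace n k) (Coh.structureModule _))⟦(-i)⟧ ≅
        (twD n k d).obj ((DCoh.inD (CohB1.ProjSpace n k) (tw n k (-(d : ℤ))))⟦(-i)⟧) :=
      (shiftFunctor _ (-i)).mapIso ((DerivedCategory.singleFunctor _ 0).mapIso (twZero n k) ≪≫
        (twDSingle n k (-(d : ℤ)) d 0 (by ring)).symm) ≪≫
        (((twD n k d).commShiftIso (-i)).app _).symm
    rw [← cancel_epi e.hom, comp_zero]
    apply (shiftFunctor _ i).map_injective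
    rw [Functor.map_zero, ← cancel_epi ((shiftFunctorCompIsoId _ (-i) i (by simp)).inv.app _), comp_zero]
    exact h0.elim _ _
  exact ⟨hcoh, a, b, ha, hb⟩

end K352.Pn
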