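import Groth.Agent.DEquiv.K352.Lin
import Groth.Agent.PerfB.FlatPull
import Groth.Agent.PerfB.UnitStr
import Groth.Agent.Dcoh.MapDer
import Groth.Agent.Sga67.CohBasic
import Groth.Agent.FormalA.PullbackQC

/-!
# Transport of `D(O_X)` along an isomorphism of schemes
-/

set_option autoImplicit false

universe u

open CategoryTheory CategoryTheory.Limits AlgebraicGeometry Opposite TopologicalSpace Pretriangulated
attribute [local instance] HasDerivedCategory.standard

namespace K352.IsoTr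

open Groth.Agent.PerfB Groth.Agent.PerfB.FlatPull Groth.Agent.PerfB.UnitStr

variable {X Y : Scheme.{u}} (e : X ≅ Y)

/-- `e⁻¹^* ⋙ e^* ≅ id`. -/
noncomputable def pullUnit : Scheme.Modules.pullback e.hom ⋙ Scheme.Modules.pullback e.inv ≅ 𝟭 Y.Modules :=
  Scheme.Modules.pullbackComp e.inv e.hom ≪≫ Scheme.Modules.pullbackCongr e.inv_hom_id ≪≫
      Scheme.Modules.pullbackId Y

/-- `e^* ⋙ e⁻¹^* ≅ id`. -/
noncomputable def pullCounit : Scheme.Modules.pullback e.inv ⋙ Scheme.Modules.pullback e.hom ≅ 𝟭 X.Modules :=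
  Scheme.Modules.pullbackComp e.hom e.inv ≪≫ Scheme.Modules.pullbackCongr e.hom_inv_id ≪≫
      Scheme.Modules.pullbackId X

/-- `e^* : Mod(O_Y) ≌ Mod(O_X)`. -/
noncomputable def pullEquiv : Y.Modules ≌ X.Modules :=
  CategoryTheory.Equivalence.mk (Scheme.Modules.pullback e.hom) (Scheme.Modules.pullback e.inv)
    (pullUnit e).symm (pullCounit e)

/-- `e^* : D(O_Y) ≌ D(O_X)`. -/
noncomputable def pullEquivD : DCoh.D Y ≌ DCoh.D X :=
  CategoryTheory.Equivalence.mk (pullbackD e.hom) (pullbackD e.inv)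
    ((Groth.Agent.Dcoh.MapDer.mapDerCompIso (pullUnit e)) ≪≫
      Groth.Agent.Dcoh.MapDer.mapDerId _).symm
    ((Groth.Agent.Dcoh.MapDer.mapDerCompIso (pullCounit e)) ≪≫
      Groth.Agent.Dcoh.MapDer.mapDerId _)

theorem isCoh_pullback_iff (M : Y.Modules) :
    Coh.IsCoh ((Scheme.Modules.pullback e.hom).obj M) ↔ Coh.IsCoh M := by
  refine ⟨fun h => ?_, fun h => Groth.Agent.FormalA.PullbackQC.isCoh_pullback e.hom M h⟩
  exact Groth.Agent.Sga67.CohBasic.isCoh_of_iso ((pullUnit e).app M)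
    (Groth.Agent.FormalA.PullbackQC.isCoh_pullback e.inv _ h)

theorem isQCoh_pullback_iff (M : Y.Modules) :
    Coh.IsQCoh ((Scheme.Modules.pullback e.hom).obj M) ↔ Coh.IsQCoh M := by
  refine ⟨fun h => ?_, fun h => Groth.Agent.FormalA.PullbackQC.isQCoh_pullback e.hom M h⟩
  exact Groth.Agent.PerfA.QCohSerre.isQCoh_of_iso ((pullUnit e).app M)
    (Groth.Agent.FormalA.PullbackQC.isQCoh_pullback e.inv _ h)

theorem isQCohD_iff (K : DCoh.D Y) : DCoh.IsQCohD ((pullbackD e.hom).obj K) ↔ DCoh.IsQCohD K := by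
  refine forall_congr' fun i => ?_
  rw [← isQCoh_pullback_iff e]
  exact ⟨Groth.Agent.PerfA.QCohSerre.isQCoh_of_iso (HDpullback e.hom K i),
    Groth.Agent.PerfA.QCohSerre.isQCoh_of_iso (HDpullback e.hom K i).symm⟩

theorem isCohD_iff (K : DCoh.D Y) : DCoh.IsCohD ((pullbackD e.hom).obj K) ↔ DCoh.IsCohD K := by
  refine forall_congr' fun i => ?_
  rw [← isCoh_pullback_iff e]
  exact ⟨Groth.Agent.Sga67.CohBasic.isCoh_of_iso (HDpullback e.hom K i),
    Groth.Agent.Sga67.CohBasic.isCoh_of_iso (HDpullback e.hom K i).symm⟩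

theorem cohbP_iff (K : DCoh.D Y) : SGA6.cohbP X ((pullbackD e.hom).obj K) ↔ SGA6.cohbP Y K := by
  refine and_congr (isCohD_iff e K) ?_
  simp only [isGE_pullbackD_iff, isLE_pullbackD_iff]

section Lin

variable {A : Type u} [CommRing A] [X.Over (Spec (CommRingCat.of A))] [Y.Over (Spec (CommRingCat.of A))]
  [e.hom.IsOver (Spec (CommRingCat.of A))]

/-- `Hom(O_Y, K⟦i⟧) ≃ Hom(O_X, (e^* K)⟦i⟧)`, linear. -/
noncomputable def homE (K : DCoh.D Y) (i : ℤ) :
    (DCoh.inD Y (Coh.structureModule Y) ⟶ K⟦i⟧) ≃ₗ[A]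
      (DCoh.inD X (Coh.structureModule X) ⟶ ((pullbackD e.hom).obj K)⟦i⟧) :=
  have := Lin.linear_pullback (A := A) e.hom
  have := Lin.linear_mapDerivedCategory A (Scheme.Modules.pullback e.hom)
  have hff : (pullbackD e.hom).FullyFaithful := (pullEquivD e).fullyFaithfulFunctor
  { ((pullEquivD e).fullyFaithfulFunctor.homEquiv).trans
      ((Iso.homCongr (pullO e.hom) (((pullbackD e.hom).commShiftIso i).app K))) with
    map_add' := fun g h => by
      change (pullO e.hom).inv ≫ (pullbackD e.hom).map (g + h) ≫ _ =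
        (pullO e.hom).inv ≫ (pullbackD e.hom).map g ≫ _ + (pullO e.hom).inv ≫ (pullbackD e.hom).map h ≫ _
      rw [Functor.map_add, Preadditive.add_comp, Preadditive.comp_add]
    map_smul' := fun a g => by
      change (pullO e.hom).inv ≫ (pullbackD e.hom).map (a • g) ≫ _ =
        a • ((pullO e.hom).inv ≫ (pullbackD e.hom).map g ≫ _)
      rw [CategoryTheory.Functor.map_smul, Linear.smul_comp, Linear.comp_smul] }

end Lin

end K352.IsoTr
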