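import Mathlib.CategoryTheory.Triangulated.Adjunction
import Mathlib.CategoryTheory.Triangulated.Yoneda

/-!
# Comparison of the essential images of two functors agreeing on a spanning class
-/

set_option autoImplicit false

universe v v' u u'

namespace K352.EssIm

open CategoryTheory CategoryTheory.Limits CategoryTheory.Pretriangulated

section

variable {D : Type u} [Category.{v} D] [HasShift D ℤ]
  {D' : Type u'} [Category.{v'} D'] [Preadditive D'] [HasShift D' ℤ]
  [∀ n : ℤ, (shiftFunctor D' n).Additive]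

/-- Hom vanishing for all `F A ⟶ N` gives the vanishing of all `F A ⟶ N⟦i⟧`. -/
theorem zero_shift (F : D ⥤ D') [F.CommShift ℤ] {N : D'} (h : ∀ (A : D) (f : F.obj A ⟶ N), f = 0) (i : ℤ)
    (A : D) (f : F.obj A ⟶ N⟦i⟧) : f = 0 := by
  let e : F.obj A ≅ (F.obj (A⟦-i⟧))⟦i⟧ :=
    F.mapIso ((shiftFunctorCompIsoId D (-i) i (by omega)).app A).symm ≪≫ (F.commShiftIso i).app _
  obtain ⟨g, hg⟩ := (shiftFunctor D' i).map_surjective (e.inv ≫ f)
  rw [h _ g, Functor.map_zero] at hg
  rw [← cancel_epi e.inv, ← hg, comp_zero]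

/-- Injectivity of composition with `ε` on maps from objects `F A` passes to `ε⟦i⟧`. -/
theorem inj_shift (F : D ⥤ D') [F.CommShift ℤ] {P Q : D'} (ε : P ⟶ Q)
    (h : ∀ (A : D) (f : F.obj A ⟶ P), f ≫ ε = 0 → f = 0) (i : ℤ)
    (A : D) (f : F.obj A ⟶ P⟦i⟧) (hf : f ≫ ε⟦i⟧' = 0) : f = 0 := by
  let e : F.obj A ≅ (F.obj (A⟦-i⟧))⟦i⟧ :=
    F.mapIso ((shiftFunctorCompIsoId D (-i) i (by omega)).app A).symm ≪≫ (F.commShiftIso i).app _
  obtain ⟨g, hg⟩ := (shiftFunctor D' i).map_surjective (e.inv ≫ f)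
  have h1 : g ≫ ε = 0 := by
    apply (shiftFunctor D' i).map_injective
    rw [Functor.map_comp, hg, Category.assoc, hf, comp_zero, Functor.map_zero]
  rw [h _ g h1, Functor.map_zero] at hg
  rw [← cancel_epi e.inv, ← hg, comp_zero]

end

variable {D : Type u} [Category.{v} D] [Preadditive D] [HasZeroObject D] [HasShift D ℤ]
  [∀ n : ℤ, (shiftFunctor D n).Additive]
  {D' : Type u'} [Category.{v'} D'] [Preadditive D'] [HasZeroObject D'] [HasShift D' ℤ]
  [∀ n : ℤ, (shiftFunctor D' n).Additive] [Pretriangulated D']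

omit [HasZeroObject D] in
/-- The essential image of `G` is contained in that of the fully faithful `F` if both have right adjoints and agree on a
class `S` of objects with zero right orthogonal. -/
theorem essImage
    (F G : D ⥤ D') [F.CommShift ℤ] [G.CommShift ℤ] [F.Full] [F.Faithful] [F.IsLeftAdjoint] [G.IsLeftAdjoint]
    [F.Additive] [G.Additive]
    (S : Set D) (hS : ∀ K : D, (∀ E ∈ S, ∀ (i : ℤ) (f : E ⟶ K⟦i⟧), f = 0) → IsZero K)
    (hFG : ∀ E ∈ S, Nonempty (F.obj E ≅ G.obj E)) (M : D) : F.essImage (G.obj M) := by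
  let adj := Adjunction.ofIsLeftAdjoint F
  let adj' := Adjunction.ofIsLeftAdjoint G
  let R := F.rightAdjoint.obj (G.obj M)
  let ε : F.obj R ⟶ G.obj M := adj.counit.app (G.obj M)
  obtain ⟨N, p, δ, hT⟩ := distinguished_cocone_triangle ε
  -- maps from `F A` to `G M` factor uniquely through `ε`
  have hsurj : ∀ (A : D) (f : F.obj A ⟶ G.obj M), ∃ g : F.obj A ⟶ F.obj R, g ≫ ε = f := by
    intro A f
    refine ⟨F.map (adj.homEquiv _ _ f), ?_⟩
    exact (adj.homEquiv_counit _ _ _).symm.trans ((adj.homEquiv _ _).symm_apply_apply f)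
  have hinj : ∀ (A : D) (g : F.obj A ⟶ F.obj R), g ≫ ε = 0 → g = 0 := by
    intro A g hg
    obtain ⟨g', rfl⟩ := F.map_surjective g
    have h1 : (adj.homEquiv _ _).symm g' = (adj.homEquiv _ _).symm 0 := by
      have h2 : (adj.homEquiv A (G.obj M)).symm 0 = 0 := by
        rw [adj.homEquiv_counit, Functor.map_zero, zero_comp]
      rw [h2]
      exact (adj.homEquiv_counit _ _ _).trans hg
    rw [(adj.homEquiv _ _).symm.injective h1, Functor.map_zero]
  -- `N` is right orthogonal to the image of `F`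
  have hN : ∀ (A : D) (f : F.obj A ⟶ N), f = 0 := by
    intro A f
    have h1 : f ≫ δ = 0 := by
      refine inj_shift F ε hinj 1 A _ ?_
      rw [Category.assoc]
      exact (congrArg (fun x => f ≫ x) (comp_distTriang_mor_zero₃₁ _ hT)).trans comp_zero
    obtain ⟨g, hg⟩ := Triangle.coyoneda_exact₃ _ hT f h1
    obtain ⟨g', rfl⟩ := hsurj A g
    rw [hg]
    refine (Category.assoc g' ε p).trans ?_
    exact (congrArg (fun x => g' ≫ x) (comp_distTriang_mor_zero₁₂ _ hT)).trans comp_zero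
  -- hence to the image of `G`
  have hZ : IsZero (G.rightAdjoint.obj N) := by
    refine hS _ fun E hE i f => ?_
    obtain ⟨e⟩ := hFG E hE
    let c : (E⟦-i⟧)⟦i⟧ ≅ E := (shiftFunctorCompIsoId D (-i) i (by omega)).app E
    obtain ⟨g, hg⟩ := (shiftFunctor D i).map_surjective (c.hom ≫ f)
    -- `g : E⟦-i⟧ ⟶ G.rightAdjoint.obj N`
    have h1 : (adj'.homEquiv _ _).symm g = 0 := by
      let e' : G.obj (E⟦-i⟧) ≅ F.obj (E⟦-i⟧) :=
        (G.commShiftIso (-i)).app E ≪≫ (shiftFunctor D' (-i)).mapIso e.symm ≪≫ ((F.commShiftIso (-i)).app E).symm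
      rw [← cancel_epi e'.inv, hN _ (e'.inv ≫ _), comp_zero]
    have h3 : g = 0 := by
      have h2 : (adj'.homEquiv (E⟦-i⟧) N).symm 0 = 0 := by
        rw [adj'.homEquiv_counit, Functor.map_zero, zero_comp]
      rw [← h2] at h1
      exact (adj'.homEquiv _ _).symm.injective h1
    rw [← cancel_epi c.hom, ← hg, h3, Functor.map_zero, comp_zero]
  have hp : p = 0 := by
    have h2 : (adj'.homEquiv M N) p = (adj'.homEquiv M N) 0 := hZ.eq_of_tgt _ _
    exact (adj'.homEquiv _ _).injective h2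
  -- `N = 0`
  have hN0 : 𝟙 N = 0 := by
    obtain ⟨s, hs⟩ := Triangle.yoneda_exact₃ _ hT (𝟙 N) (by
      refine (congrArg (fun x => x ≫ 𝟙 N) hp).trans zero_comp)
    have key : ∀ s : (F.obj R)⟦(1:ℤ)⟧ ⟶ N, s = 0 := fun s => by
      let e : (F.obj R)⟦(1:ℤ)⟧ ≅ F.obj (R⟦(1:ℤ)⟧) := ((F.commShiftIso (1:ℤ)).app R).symm
      rw [← cancel_epi e.inv, hN _ (e.inv ≫ s), comp_zero]
    rw [hs, key s]
    exact comp_zero
  have hiso : IsIso ε := by
    refine (Triangle.isZero₃_iff_isIso₁ _ hT).1 ?_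
    exact (IsZero.iff_id_eq_zero N).2 hN0
  exact ⟨R, ⟨asIso ε⟩⟩

end K352.EssIm
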