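import Groth.Agent.DEquiv.K352.FMGlob
import Groth.Agent.Grpsch.CubeSec
import Groth.Agent.Sga67.IdealTorsion
import Groth.Agent.S0786
import Groth.Agent.Ega3B.ProjFrame

/-!
# A perfect kernel with Fourier–Mukai functor isomorphic to the identity is the structure sheaf of the diagonal
-/

set_option autoImplicit false

universe u

open CategoryTheory CategoryTheory.Limits AlgebraicGeometry MonoidalCategory TopologicalSpace

attribute [local instance] HasDerivedCategory.standard Abelian.hasFiniteBiproducts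

open scoped Groth.Agent.Dcoh.MonCat Groth.Agent.Dcoh.ModD

namespace K352.FMDiag

open K353 K353.OnSub K353.Calc K353.Conv Groth.Agent K352.FMGlob

section Alg

/-- The kernel of the multiplication is generated by the differences. -/
theorem mem_span_of_ker {A C : Type*} [CommRing A] [CommRing C] (P Q : A →+* C) (D : C →+* A)
    (hP : ∀ a, D (P a) = a) (hQ : ∀ a, D (Q a) = a)
    (hgen : ∀ z : C, z ∈ AddSubmonoid.closure {z | ∃ a b, z = P a * Q b}) (z : C) (hz : D z = 0) :
    z ∈ Ideal.span {z | ∃ a, z = P a - Q a} := by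
  have key : ∀ z ∈ AddSubmonoid.closure {z | ∃ a b, z = P a * Q b}, z - Q (D z) ∈ Ideal.span {z | ∃ a, z = P a - Q a} := by
    intro z hz
    induction hz using AddSubmonoid.closure_induction with
    | mem x hx =>
      obtain ⟨a, b, rfl⟩ := hx
      have h : P a * Q b - Q (D (P a * Q b)) = Q b * (P a - Q a) := by
        rw [map_mul, hP, hQ, map_mul]
        ring
      rw [h]
      exact Ideal.mul_mem_left _ _ (Ideal.subset_span ⟨a, rfl⟩)
    | zero => simp
    | add x y _ _ hx hy =>
      have h : x + y - Q (D (x + y)) = (x - Q (D x)) + (y - Q (D y)) := by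
        rw [map_add, map_add]
        ring
      rw [h]
      exact Ideal.add_mem _ hx hy
  have h := key z (hgen z)
  rwa [hz, map_zero, sub_zero] at h

end Alg

variable {S X : Scheme.{u}} (s : X ⟶ S)

/-- Functions on `U ×_S U` are sums of products. -/
theorem mem_closure [IsAffine S] {U : X.Opens} (hU : IsAffineOpen U)
    (z : Γ(pullback s s, W₀ (pullback.fst s s) (pullback.snd s s) U)) :
    z ∈ AddSubmonoid.closure {z | ∃ a b : Γ(X, U),
      z = ((pullback.fst s s).appLE U (W₀ (pullback.fst s s) (pullback.snd s s) U) inf_le_left).hom a *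
        ((pullback.snd s s).appLE U (W₀ (pullback.fst s s) (pullback.snd s s) U) inf_le_right).hom b} := by
  obtain ⟨t, ht⟩ := (Grpsch.CubeSec.mul_bijective (pullback.fst s s) (pullback.snd s s) rfl
    pullback.condition.symm (IsPullback.of_hasPullback s s) hU hU).2 z
  subst ht
  induction t using TensorProduct.induction_on with
  | zero =>
    rw [map_zero]
    exact zero_mem _
  | tmul a b => exact AddSubmonoid.subset_closure ⟨a, b, rfl⟩
  | add x y hx hy =>
    rw [map_add]
    exact add_mem hx hy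

/-- Functions on `U ×_S U` vanishing on the diagonal. -/
theorem mem_span [IsAffine S] {U : X.Opens} (hU : IsAffineOpen U)
    (z : Γ(pullback s s, W₀ (pullback.fst s s) (pullback.snd s s) U))
    (hz : (pullback.diagonal s).app _ z = 0) :
    z ∈ Ideal.span {z | ∃ a : Γ(X, U),
      z = ((pullback.fst s s).appLE U (W₀ (pullback.fst s s) (pullback.snd s s) U) inf_le_left).hom a -
        ((pullback.snd s s).appLE U (W₀ (pullback.fst s s) (pullback.snd s s) U) inf_le_right).hom a} := by
  have hle : U ≤ (pullback.diagonal s) ⁻¹ᵁ (W₀ (pullback.fst s s) (pullback.snd s s) U) := by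
    intro x hx
    constructor
    · change (pullback.fst s s) ((pullback.diagonal s) x) ∈ U
      rw [← Scheme.Hom.comp_apply, pullback.diagonal_fst]
      exact hx
    · change (pullback.snd s s) ((pullback.diagonal s) x) ∈ U
      rw [← Scheme.Hom.comp_apply, pullback.diagonal_snd]
      exact hx
  have hid : ∀ (g : X ⟶ X) (e : U ≤ g ⁻¹ᵁ U), g = 𝟙 X → ∀ a : Γ(X, U), g.appLE U U e a = a := by
    rintro g e rfl a
    have h1 : (𝟙 X : X ⟶ X).appLE U U e = 𝟙 _ := by
      rw [Scheme.Hom.appLE, Scheme.Hom.id_app]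
      exact (Category.id_comp _).trans (X.presheaf.map_id _)
    rw [h1]
    rfl
  refine mem_span_of_ker _ _ ((pullback.diagonal s).appLE _ U hle).hom (fun a => ?_) (fun a => ?_)
    (mem_closure s hU) z ?_
  · have h1 := (pullback.diagonal s).appLE_comp_appLE (pullback.fst s s) U
      (W₀ (pullback.fst s s) (pullback.snd s s) U) U inf_le_left hle
    refine (ConcreteCategory.congr_hom h1 a).trans (hid _ _ (pullback.diagonal_fst s) a)
  · have h1 := (pullback.diagonal s).appLE_comp_appLE (pullback.snd s s) U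
      (W₀ (pullback.fst s s) (pullback.snd s s) U) U inf_le_right hle
    refine (ConcreteCategory.congr_hom h1 a).trans (hid _ _ (pullback.diagonal_snd s) a)
  · change (pullback.diagonal s).appLE _ U hle z = 0
    rw [Scheme.Hom.appLE, CommRingCat.comp_apply, hz, map_zero]

/-- The cohomology sheaf is killed by the ideal of the diagonal. -/
theorem killed [IsAffine S] [IsSeparated s] [LocallyOfFiniteType s] [Flat s] [QuasiCompact s]
    [IsNoetherian X] [JacobsonSpace X] [X.IsSeparated] (hreg : Models.IsRegularScheme X)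
    [IsLocallyNoetherian (pullback s s)] [DCoh.HasLpull (pullback.fst s s)] [DCoh.HasRpush (pullback.snd s s)]
    (K : DCoh.D (pullback s s)) (hK : DCoh.IsPerfect K) (hKj : ∀ j : ℤ, j ≠ 0 → IsZero (DCoh.HD K j))
    (hsupp : ∀ z ∈ CohB1.support (DCoh.HD K 0), IsClosed ({z} : Set ↥(pullback s s)) →
      pullback.fst s s z = pullback.snd s s z)
    (h : IsoOn (SGA6.perfP X) (fm (pullback.fst s s) (pullback.snd s s) K) (𝟭 _)) :
    ClSub.KilledByIdeal (pullback.diagonal s).ker (DCoh.HD K 0) := by
  have hcoh : Coh.IsCoh (DCoh.HD K 0) := K358.VanTest.isCohD_of_isPerfect K hK 0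
  have hJ : JacobsonSpace ↥(pullback s s) := LocallyOfFiniteType.jacobsonSpace (pullback.fst s s)
  let I := (pullback.diagonal s).ker
  let J := {V : (pullback s s).affineOpens // ∀ a ∈ I.ideal V, ∀ m : Γ(DCoh.HD K 0, V.1), a • m = 0}
  refine Sga67.IdealTorsion.killedByIdeal_of_cover (J := J) (fun j => j.1) (fun x => ?_) (fun j => j.2) hcoh.1
  by_cases hx : x ∈ CohB1.support (DCoh.HD K 0)
  · have hcl : IsClosed (CohB1.support (DCoh.HD K 0)) := FormalA.Support.isClosed_support _ hcoh.2
    obtain ⟨z, hz, hzc⟩ := nonempty_inter_closedPoints (Z := closure {x}) ⟨x, subset_closure rfl⟩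
      isClosed_closure.isLocallyClosed
    have hz' : z ∈ CohB1.support (DCoh.HD K 0) := closure_minimal (Set.singleton_subset_iff.2 hx) hcl hz
    have hpq := hsupp z hz' hzc
    obtain ⟨U, hU, hzU, -⟩ := exists_isAffineOpen_mem_and_subset (x := pullback.fst s s z) (U := (⊤ : X.Opens)) trivial
    have hW : IsAffineOpen (W₀ (pullback.fst s s) (pullback.snd s s) U) :=
      Ega3B.ProjFrame.isAffineOpen_fst_inf_snd s s hU hU
    have hzW : z ∈ W₀ (pullback.fst s s) (pullback.snd s s) U := ⟨hzU, by
      change pullback.snd s s z ∈ U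
      rw [← hpq]
      exact hzU⟩
    refine ⟨⟨⟨W₀ (pullback.fst s s) (pullback.snd s s) U, hW⟩, fun a ha m => ?_⟩, ?_⟩
    · have ha' : (pullback.diagonal s).app _ a = 0 :=
        (pullback.diagonal s).ideal_ker_le ⟨W₀ (pullback.fst s s) (pullback.snd s s) U, hW⟩ ha
      have h1 := mem_span s hU a ha'
      have h2 : Ideal.span {z | ∃ a : Γ(X, U),
          z = ((pullback.fst s s).appLE U (W₀ (pullback.fst s s) (pullback.snd s s) U) inf_le_left).hom a -
            ((pullback.snd s s).appLE U (W₀ (pullback.fst s s) (pullback.snd s s) U) inf_le_right).hom a} ≤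
          LinearMap.ker (LinearMap.toSpanSingleton
            Γ(pullback s s, W₀ (pullback.fst s s) (pullback.snd s s) U)
            Γ(DCoh.HD K 0, W₀ (pullback.fst s s) (pullback.snd s s) U) m) := by
        rw [Ideal.span_le]
        rintro _ ⟨b, rfl⟩
        rw [SetLike.mem_coe, LinearMap.mem_ker, LinearMap.toSpanSingleton_apply]
        exact smul_eq_zero (pullback.fst s s) (pullback.snd s s) hreg hU hW K hK hKj h b m
      have h3 := h2 h1
      rwa [LinearMap.mem_ker, LinearMap.toSpanSingleton_apply] at h3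
    · exact (specializes_iff_mem_closure.2 hz).mem_open (W₀ (pullback.fst s s) (pullback.snd s s) U).2 hzW
  · have hcl : IsClosed (CohB1.support (DCoh.HD K 0)) := FormalA.Support.isClosed_support _ hcoh.2
    obtain ⟨V, hV, hxV, hV'⟩ := exists_isAffineOpen_mem_and_subset (x := x)
      (U := (⟨(CohB1.support (DCoh.HD K 0))ᶜ, hcl.isOpen_compl⟩ : (pullback s s).Opens)) hx
    have h0 : Subsingleton Γ(DCoh.HD K 0, V) := CohqB.LocalQC.subsingleton_sections _ fun v hv =>
      (CohqB.DevSupport.not_mem_support_iff _ _).1 (hV' hv)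
    exact ⟨⟨⟨V, hV⟩, fun a _ m => h0.elim _ _⟩, hxV⟩

/-- An object with cohomology only in degree `0`. -/
theorem nonempty_iso_inD {Y : Scheme.{u}} (M : DCoh.D Y) (h : ∀ i : ℤ, i ≠ 0 → IsZero (DCoh.HD M i)) :
    Nonempty (M ≅ DCoh.inD Y (DCoh.HD M 0)) := by
  have h1 : M.IsGE 0 := by
    rw [DerivedCategory.isGE_iff]
    intro i hi
    exact h i (by omega)
  have h2 : M.IsLE 0 := by
    rw [DerivedCategory.isLE_iff]
    intro i hi
    exact h i (by omega)
  obtain ⟨N, ⟨e⟩⟩ := DerivedCategory.exists_iso_singleFunctor_obj_of_isGE_of_isLE M 0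
  have e2 : DCoh.HD M 0 ≅ N := (DerivedCategory.homologyFunctor Y.Modules 0).mapIso e ≪≫
    (DerivedCategory.singleFunctorCompHomologyFunctorIso Y.Modules 0).app N
  exact ⟨e ≪≫ (DerivedCategory.singleFunctor Y.Modules 0).mapIso e2.symm⟩

/-- **A perfect kernel on `X ×_S X` whose Fourier–Mukai functor is the identity on perfect objects.** -/
theorem main [IsAffine S] [IsSeparated s] [LocallyOfFiniteType s] [Flat s] [QuasiCompact s]
    [IsNoetherian X] [JacobsonSpace X] [X.IsSeparated] (hreg : Models.IsRegularScheme X)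
    [IsLocallyNoetherian (pullback s s)] [DCoh.HasLpull (pullback.fst s s)] [DCoh.HasRpush (pullback.snd s s)]
    (K : DCoh.D (pullback s s)) (hK : DCoh.IsPerfect K)
    (h : IsoOn (SGA6.perfP X) (fm (pullback.fst s s) (pullback.snd s s) K) (𝟭 _)) :
    Nonempty (K ≅ DCoh.inD (pullback s s) ((Coh.push (pullback.diagonal s)).obj (Coh.structureModule X))) := by
  have hJ : JacobsonSpace ↥(pullback s s) := LocallyOfFiniteType.jacobsonSpace (pullback.fst s s)
  have haff : ∀ (U V : X.Opens), IsAffineOpen U → IsAffineOpen V →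
      IsAffineOpen (pullback.fst s s ⁻¹ᵁ U ⊓ pullback.snd s s ⁻¹ᵁ V) :=
    fun U V hU hV => Ega3B.ProjFrame.isAffineOpen_fst_inf_snd s s hU hV
  have hF : ∀ F : X.Modules, Coh.IsCoh F →
      Nonempty ((fm (pullback.fst s s) (pullback.snd s s) K).obj (DCoh.inD X F) ≅ DCoh.inD X F) := fun F hF =>
    h.app (Sky.isPerfect_inD hreg hF)
  have hKj : ∀ j : ℤ, j ≠ 0 → IsZero (DCoh.HD K j) := fun j hj =>
    FMTest.isZero_HD (pullback.fst s s) (pullback.snd s s) haff K hK (fun F h => hF F h.isCoh) j hj
  have hsupp : ∀ z ∈ CohB1.support (DCoh.HD K 0), IsClosed ({z} : Set ↥(pullback s s)) →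
      pullback.fst s s z = pullback.snd s s z := fun z hz hzc => by
    by_contra hne
    exact FMTest.notMem_supp (pullback.fst s s) (pullback.snd s s) haff K hK (fun F h => hF F h.isCoh) 0 z
      ((pullback.fst s s).closePoints_subset_preimage_closedPoints hzc) hne hz
  have hcoh : Coh.IsCoh (DCoh.HD K 0) := K358.VanTest.isCohD_of_isPerfect K hK 0
  obtain ⟨G, hG, ⟨eG⟩⟩ := S0786.result (pullback.diagonal s) (DCoh.HD K 0) hcoh (killed s hreg K hK hKj hsupp h)
  obtain ⟨e0⟩ := nonempty_iso_inD K hKj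
  have := hasRpush (pullback.diagonal s)
  have := hasRpush (𝟙 X)
  obtain ⟨e1⟩ := FMSky.nonempty_rpush (pullback.diagonal s) G hG.1
  obtain ⟨e2⟩ := FMSky.nonempty_rpush (pullback.diagonal s) (Coh.structureModule X)
    (Ega2.QCohLocal.isQCoh_structureModule X)
  obtain ⟨e3⟩ := rpush_comp (pullback.diagonal s) (pullback.snd s s) (𝟙 X) (pullback.diagonal_snd s)
  obtain ⟨e4⟩ := hF (Coh.structureModule X) (Fdesc.StructMod.isCoh_structureModule X)
  let f0 : K ≅ (DCoh.Rpush (pullback.diagonal s)).obj (DCoh.inD X G) :=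
    e0 ≪≫ (DerivedCategory.singleFunctor _ 0).mapIso eG.symm ≪≫ e1.symm
  let f1 : (DCoh.Rpush (pullback.snd s s)).obj K ≅ DCoh.inD X (Coh.structureModule X) :=
    (DCoh.Rpush (pullback.snd s s)).mapIso (FMKill.nfO (pullback.fst s s) K).symm ≪≫ e4
  let f2 : DCoh.inD X G ≅ DCoh.inD X (Coh.structureModule X) :=
    ((K354.Diag.rpushId X).app _).symm ≪≫ (e3.app _).symm ≪≫ (DCoh.Rpush (pullback.snd s s)).mapIso f0.symm ≪≫ f1
  exact ⟨f0 ≪≫ (DCoh.Rpush (pullback.diagonal s)).mapIso f2 ≪≫ e2⟩

end K352.FMDiag
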