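import Groth.Agent.DEquiv.K353.Conv

/-!
# Localisation of Fourier–Mukai functors on both sides

`fm_loc`: `Lj₂^* ∘ Φ_K ∘ Rj₁_* ≅ Φ_{K|W}` on `D_QCoh(O_{V₁})`, for `j₁ : V₁ ⟶ X` flat, `W = P ×_{X × Y} (V₁ × V₂)`.
-/

set_option autoImplicit false

universe u

open CategoryTheory CategoryTheory.Limits AlgebraicGeometry MonoidalCategory

attribute [local instance] HasDerivedCategory.standard

open scoped Groth.Agent.Dcoh.MonCat Groth.Agent.Dcoh.ModD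

namespace K352.FMLoc

open K353 K353.OnSub K353.Calc K353.Conv

theorem fm_loc {X Y P V₁ V₂ P₁ W : Scheme.{u}} {p : P ⟶ X} {q : P ⟶ Y} {j₁ : V₁ ⟶ X} {j₂ : V₂ ⟶ Y}
    {l : P₁ ⟶ P} {p₁ : P₁ ⟶ V₁} (sq₁ : IsPullback l p₁ p j₁) {h : W ⟶ P₁} {qW : W ⟶ V₂}
    (sq₂ : IsPullback h qW (l ≫ q) j₂) [Flat j₁] [QuasiCompact j₁] [QuasiSeparated j₁]
    [Flat j₂] [QuasiCompact q] [QuasiSeparated q]
    [DCoh.HasLpull p] [DCoh.HasRpush q] [DCoh.HasRpush j₁] [DCoh.HasLpull j₂]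
    (pW : W ⟶ V₁) (hp : h ≫ p₁ = pW) (w : W ⟶ P) (hw : h ≫ l = w) [DCoh.HasLpull pW] [DCoh.HasRpush qW]
    [DCoh.HasLpull w] (K : DCoh.D P) (hK : qc P K) :
    IsoOn (qc V₁) (DCoh.Rpush j₁ ⋙ fm p q K ⋙ DCoh.Lpull j₂) (fm pW qW ((DCoh.Lpull w).obj K)) := by
  have := hasRpush l
  have := hasLpull l
  have := hasLpull p₁
  have := hasLpull h
  have := hasRpush (l ≫ q)
  have hqc : QuasiCompact l := MorphismProperty.of_isPullback sq₁.flip inferInstance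
  have hqs : QuasiSeparated l := MorphismProperty.of_isPullback sq₁.flip inferInstance
  -- `Rj₁_* ⋙ Lp^* ≅ Lp₁^* ⋙ Rl_*`
  have h1 : IsoOn (qc V₁) (DCoh.Rpush j₁ ⋙ DCoh.Lpull p) (DCoh.Lpull p₁ ⋙ DCoh.Rpush l) :=
    bc (Or.inl inferInstance) sq₁.flip
  have h2 : IsoOn (qc P₁) (DCoh.Rpush l ⋙ tensorRight K) (tensorRight ((DCoh.Lpull l).obj K) ⋙ DCoh.Rpush l) :=
    proj_right l K hK
  obtain ⟨i⟩ := rpush_comp l q (l ≫ q) rfl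
  -- `R(l ≫ q)_* ⋙ Lj₂^* ≅ Lh^* ⋙ RqW_*`
  have h3 : IsoOn (qc P₁) (DCoh.Rpush (l ≫ q) ⋙ DCoh.Lpull j₂) (DCoh.Lpull h ⋙ DCoh.Rpush qW) :=
    bc (Or.inr inferInstance) sq₂
  obtain ⟨k⟩ := lpull_tensor h ((DCoh.Lpull l).obj K)
  obtain ⟨m⟩ := lpull_comp h l w hw
  obtain ⟨m'⟩ := lpull_comp h p₁ pW hp
  obtain ⟨n⟩ := tensorRight_congr (m.app K)
  have e1 : IsoOn (qc V₁) ((DCoh.Rpush j₁ ⋙ DCoh.Lpull p) ⋙ (tensorRight K ⋙ DCoh.Rpush q ⋙ DCoh.Lpull j₂))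
      ((DCoh.Lpull p₁ ⋙ DCoh.Rpush l) ⋙ (tensorRight K ⋙ DCoh.Rpush q ⋙ DCoh.Lpull j₂)) :=
    h1.whiskerRight _
  have e2 : IsoOn (qc V₁) (DCoh.Lpull p₁ ⋙ (DCoh.Rpush l ⋙ tensorRight K) ⋙ (DCoh.Rpush q ⋙ DCoh.Lpull j₂))
      (DCoh.Lpull p₁ ⋙ (tensorRight ((DCoh.Lpull l).obj K) ⋙ DCoh.Rpush l) ⋙ (DCoh.Rpush q ⋙ DCoh.Lpull j₂)) :=
    (h2.whiskerRight _).whiskerLeft (DCoh.Lpull p₁) (qc_lpull p₁)
  have e3 : IsoOn (qc V₁) ((DCoh.Lpull p₁ ⋙ tensorRight ((DCoh.Lpull l).obj K)) ⋙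
      (DCoh.Rpush (l ≫ q) ⋙ DCoh.Lpull j₂))
      ((DCoh.Lpull p₁ ⋙ tensorRight ((DCoh.Lpull l).obj K)) ⋙ (DCoh.Lpull h ⋙ DCoh.Rpush qW)) :=
    h3.whiskerLeft (DCoh.Lpull p₁ ⋙ tensorRight ((DCoh.Lpull l).obj K))
      (fun A hA => qc_tensor _ _ (qc_lpull p₁ A hA) (qc_lpull l K hK))
  refine IsoOn.trans e1 (IsoOn.trans e2 (IsoOn.trans (IsoOn.of_iso ?_) (IsoOn.trans e3 (IsoOn.of_iso ?_))))
  · exact Functor.isoWhiskerLeft (DCoh.Lpull p₁ ⋙ tensorRight ((DCoh.Lpull l).obj K))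
      (Functor.isoWhiskerRight i (DCoh.Lpull j₂))
  · exact Functor.isoWhiskerLeft (DCoh.Lpull p₁) (Functor.isoWhiskerRight k (DCoh.Rpush qW)) ≪≫
      Functor.isoWhiskerRight m' (tensorRight ((DCoh.Lpull h).obj ((DCoh.Lpull l).obj K)) ⋙ DCoh.Rpush qW) ≪≫
      Functor.isoWhiskerLeft (DCoh.Lpull pW) (Functor.isoWhiskerRight n (DCoh.Rpush qW))

end K352.FMLoc
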