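import Groth.Agent.Fdesc.QCohStalk
import Mathlib.AlgebraicGeometry.Morphisms.Finite
import Mathlib.AlgebraicGeometry.Noetherian

/-!
# Closed points of affine schemes and maximal ideals
-/

set_option autoImplicit false

universe u

open CategoryTheory AlgebraicGeometry TopologicalSpace

namespace K352.FMMax

open Groth.Agent

/-- The point of a maximal ideal is closed. -/
theorem exists_point {V : Scheme.{u}} [IsAffine V] (m : Ideal Γ(V, ⊤)) (hm : m.IsMaximal) :
    ∃ x : V, IsClosed ({x} : Set V) ∧ ((isAffineOpen_top V).primeIdealOf ⟨x, trivial⟩).asIdeal = m := by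
  have hA := isAffineOpen_top V
  let x : V := hA.fromSpec ⟨m, hm.isPrime⟩
  have h2 : hA.primeIdealOf ⟨x, trivial⟩ = ⟨m, hm.isPrime⟩ := by
    apply hA.fromSpec.isOpenEmbedding.injective
    exact hA.fromSpec_primeIdealOf ⟨x, trivial⟩
  have hx : ∀ v : V, m ≤ (hA.primeIdealOf ⟨v, trivial⟩).asIdeal → v = x := by
    intro v hv
    have h1 : m = (hA.primeIdealOf ⟨v, trivial⟩).asIdeal :=
      hm.eq_of_le (hA.primeIdealOf ⟨v, trivial⟩).isPrime.ne_top hv
    have h2 : hA.primeIdealOf ⟨v, trivial⟩ = ⟨m, hm.isPrime⟩ := PrimeSpectrum.ext h1.symm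
    have h3 := hA.fromSpec_primeIdealOf ⟨v, trivial⟩
    rw [h2] at h3
    exact h3.symm
  refine ⟨x, ?_, congrArg PrimeSpectrum.asIdeal h2⟩
  have h1 : ({x} : Set V) = ⋂ g ∈ m, (V.basicOpen g : Set V)ᶜ := by
    ext v
    simp only [Set.mem_singleton_iff, Set.mem_iInter]
    constructor
    · rintro rfl g hg hv
      have h3 := (Fdesc.QCohStalk.mem_basicOpen_iff hA x trivial g).1 hv
      rw [h2] at h3
      exact h3 hg
    · intro h
      refine hx v fun g hg => ?_
      by_contra h3
      exact h g hg ((Fdesc.QCohStalk.mem_basicOpen_iff hA v trivial g).2 h3)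
  rw [h1]
  exact isClosed_biInter fun g _ => (V.basicOpen g).isOpen.isClosed_compl

/-- Maximal ideals contract to maximal ideals. -/
theorem comap_isMaximal {V W : Scheme.{u}} [IsAffine V] [IsAffine W] (p : W ⟶ V) [LocallyOfFiniteType p]
    [JacobsonSpace V] (n : Ideal Γ(W, ⊤)) (hn : n.IsMaximal) : (n.comap p.appTop.hom).IsMaximal := by
  obtain ⟨w, hw, hwn⟩ := exists_point n hn
  have h1 : IsClosed ({p w} : Set V) := p.closePoints_subset_preimage_closedPoints hw
  have h2 := (isAffineOpen_top V).primeIdealOf_isMaximal_of_isClosed ⟨p w, trivial⟩ h1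
  have h3 := IsAffineOpen.comap_primeIdealOf_appLE (f := p) (x := w) ⊤ (isAffineOpen_top V) ⊤ (isAffineOpen_top W)
    le_top trivial
  rw [← h3, PrimeSpectrum.comap_asIdeal, hwn] at h2
  have h4 : p.appLE ⊤ ⊤ le_top = p.appTop := p.appLE_eq_app (U := ⊤)
  rwa [h4] at h2

end K352.FMMax
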