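import Groth.Agent.DEquiv.K353.Conv
import Groth.Agent.Cohder.RelPCMon
import Groth.Agent.PerfB.FlatPull
import Groth.Agent.DEquiv.K358.VanTest
import Groth.Agent.DEquiv.K352.Sky
import Groth.Agent.DEquiv.K354.Diag
import Groth.Agent.PerfC.LpullPC
import Groth.Agent.PerfC.PullKFlat
import Groth.Agent.Dcoh.DerPull2

/-!
# Kernels of Fourier–Mukai functors tested on sheaves with finite support

* `test_iso`: `Rq_*(K ⊗^L p^*F) ≅ Φ_K(F[0])` for `p` flat;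
* `isZero_HD`: if `Φ_K(F[0]) ≅ F[0]` for coherent `F` with finite support, `K` perfect, then `H^j(K) = 0` for `j ≠ 0`;
* `notMem_supp`: and the closed points of the support of `K` lie in `{z | p z = q z}`.
-/

set_option autoImplicit false

universe u

open CategoryTheory CategoryTheory.Limits AlgebraicGeometry MonoidalCategory

attribute [local instance] HasDerivedCategory.standard

open scoped Groth.Agent.Dcoh.MonCat Groth.Agent.Dcoh.ModD

namespace K352.FMTest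

open K353 K353.OnSub K353.Calc K353.Conv Groth.Agent Groth.Agent.PerfB.FlatPull Groth.Agent.Cohder.RelPCMon

variable {X Y P : Scheme.{u}}

/-- `Lp^*(F[0]) = (p^*F)[0]` for `p` flat. -/
noncomputable def lpullInD (p : P ⟶ X) [Flat p] [DCoh.HasLpull p] (F : X.Modules) :
    (DCoh.Lpull p).obj (DCoh.inD X F) ≅ DCoh.inD P ((Scheme.Modules.pullback p).obj F) :=
  (lpullIso p).app _ ≪≫ ((Scheme.Modules.pullback p).mapDerivedCategorySingleFunctor 0).app F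

/-- `K ⊗^L G ≅ G[0] ⊗ K`. -/
theorem mod_iso (G : P.Modules) [DCoh.HasLTensorMod G] (K : DCoh.D P) :
    Nonempty ((DCoh.LTensorMod G).obj K ≅ DCoh.inD P G ⊗ K) := by
  have := Groth.Agent.PerfC.DTens.hasLTensorCx (sgl G)
  obtain ⟨a⟩ := nonempty_mod G K
  obtain ⟨b⟩ := ltensorCx (sgl G)
  obtain ⟨c⟩ := braid (DCoh.toD P (sgl G))
  let e : DCoh.toD P (sgl G) ≅ DCoh.inD P G :=
    ((DerivedCategory.singleFunctorIsoCompQ P.Modules 0).app G).symm
  exact ⟨a ≪≫ b.app K ≪≫ c.app K ≪≫ (tensorRight K).mapIso e⟩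

/-- `Rq_*(K ⊗^L p^*F) ≅ Φ_K(F[0])`. -/
theorem test_iso (p : P ⟶ X) (q : P ⟶ Y) [Flat p] [DCoh.HasLpull p] [DCoh.HasRpush q] (F : X.Modules)
    [DCoh.HasLTensorMod ((Scheme.Modules.pullback p).obj F)] (K : DCoh.D P) :
    Nonempty ((DCoh.Rpush q).obj ((DCoh.LTensorMod ((Scheme.Modules.pullback p).obj F)).obj K) ≅
      (fm p q K).obj (DCoh.inD X F)) := by
  obtain ⟨a⟩ := mod_iso ((Scheme.Modules.pullback p).obj F) K
  exact ⟨(DCoh.Rpush q).mapIso (a ≪≫ (tensorRight K).mapIso (lpullInD p F).symm)⟩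

/-- If `Φ_K(F[0]) ≅ F[0]` for all coherent `F` with finite support, then `K` is a module. -/
theorem isZero_HD [IsLocallyNoetherian P] (p : P ⟶ X) (q : P ⟶ X) [Flat p] [QuasiCompact q] [QuasiSeparated q]
    [JacobsonSpace X] [LocallyOfFiniteType p] [DCoh.HasLpull p] [DCoh.HasRpush q]
    (haff : ∀ (U V : X.Opens), IsAffineOpen U → IsAffineOpen V → IsAffineOpen (p ⁻¹ᵁ U ⊓ q ⁻¹ᵁ V))
    (K : DCoh.D P) (hK : DCoh.IsPerfect K)
    (h : ∀ F : X.Modules, Sky.IsZD F → Nonempty ((fm p q K).obj (DCoh.inD X F) ≅ DCoh.inD X F)) (j : ℤ) (hj : j ≠ 0) :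
    IsZero (DCoh.HD K j) := by
  have := fun G : P.Modules => Dcoh.LTMod.hasLTensorMod G
  refine K358.VanTest.isZero_HD_of_test p q haff K hK j (fun F hF hfin hcl => ?_)
  obtain ⟨e⟩ := test_iso p q F K
  obtain ⟨e'⟩ := h F ⟨hF, hfin, hcl⟩
  refine IsZero.of_iso ?_ ((DerivedCategory.homologyFunctor _ j).mapIso (e ≪≫ e'))
  rcases lt_or_gt_of_ne hj with h | h
  · exact (DerivedCategory.isGE_iff (DCoh.inD X F) 0).1 inferInstance j h
  · exact (DerivedCategory.isLE_iff (DCoh.inD X F) 0).1 inferInstance j h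

/-- The closed points of the support of `K` lie in `{z | p z = q z}`. -/
theorem notMem_supp [IsLocallyNoetherian P] (p : P ⟶ X) (q : P ⟶ X) [Flat p] [QuasiCompact q] [QuasiSeparated q]
    [DCoh.HasLpull p] [DCoh.HasRpush q] [X.IsSeparated]
    (haff : ∀ (U V : X.Opens), IsAffineOpen U → IsAffineOpen V → IsAffineOpen (p ⁻¹ᵁ U ⊓ q ⁻¹ᵁ V))
    (K : DCoh.D P) (hK : DCoh.IsPerfect K)
    (h : ∀ F : X.Modules, Sky.IsZD F → Nonempty ((fm p q K).obj (DCoh.inD X F) ≅ DCoh.inD X F)) (j : ℤ) (z : P)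
    (hx : IsClosed ({p z} : Set X)) (hz : p z ≠ q z) :
    z ∉ PerfC.Supp.supp K j := by
  obtain ⟨V₂, hV₂, hzV, hV₂'⟩ := exists_isAffineOpen_mem_and_subset (x := q z)
    (U := (⟨{p z}ᶜ, hx.isOpen_compl⟩ : X.Opens)) (fun h => hz h.symm)
  let P₂ : P.Opens := q ⁻¹ᵁ V₂
  let q₂ : (P₂ : Scheme.{u}) ⟶ V₂ := q ∣_ V₂
  have sq : IsPullback P₂.ι q₂ q V₂.ι := (isPullback_morphismRestrict q V₂).flip
  have := hasLpull (𝟙 X)
  have := hasLpull P₂.ι
  have := hasLpull V₂.ι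
  have := hasLpull (P₂.ι ≫ p)
  have := hasRpush q₂
  have := fun G : (P₂ : Scheme.{u}).Modules => Dcoh.LTMod.hasLTensorMod G
  have hqc : QuasiCompact q₂ := MorphismProperty.of_isPullback sq inferInstance
  have hqs : QuasiSeparated q₂ := MorphismProperty.of_isPullback sq inferInstance
  have hKq : qc P K := fun i => (K358.VanTest.isCohD_of_isPerfect K hK i).1
  have hbc : IsoOn (qc X) (DCoh.Lpull (𝟙 X) ⋙ fm (P₂.ι ≫ p) q₂ ((DCoh.Lpull P₂.ι).obj K))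
      (fm p q K ⋙ DCoh.Lpull V₂.ι) :=
    fm_bc (Category.comp_id _).symm sq (Or.inr inferInstance) K hKq
  have hL : DCoh.IsPerfect ((DCoh.Lpull P₂.ι).obj K) := PerfC.LpullPC.isPerfect_lpull PerfC.PullKFlat.exists_pullData P₂.ι hK
  have hmem : z ∈ P₂ := hzV
  have key : (⟨z, hmem⟩ : P₂) ∉ PerfC.Supp.supp ((DCoh.Lpull P₂.ι).obj K) j := by
    refine K358.VanTest.notMem_supp_of_test (P₂.ι ≫ p) q₂ (fun U V hU hV => ?_) _ hL j ⟨z, hmem⟩ hx
      (fun F hF hFs => ?_)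
    · have e : (P₂.ι ≫ p) ⁻¹ᵁ U ⊓ q₂ ⁻¹ᵁ V = P₂.ι ⁻¹ᵁ (p ⁻¹ᵁ U ⊓ q ⁻¹ᵁ (V₂.ι ''ᵁ V)) := by
        have h1 : V = V₂.ι ⁻¹ᵁ (V₂.ι ''ᵁ V) := (V₂.ι.preimage_image_eq V).symm
        conv_lhs => rw [h1]
        rw [← Scheme.Hom.comp_preimage, ← sq.w]
        rfl
      rw [e]
      refine (haff U _ hU (hV.image_of_isOpenImmersion V₂.ι)).preimage_of_isOpenImmersion P₂.ι ?_
      rw [Scheme.Opens.opensRange_ι]
      rintro w ⟨-, hw⟩
      obtain ⟨v, -, hv⟩ := hw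
      change q w ∈ V₂
      rw [← hv]
      exact v.2
    · have hZ : Sky.IsZD F := ⟨hF, (Set.finite_singleton _).subset hFs, fun x hx' => by rw [hFs hx']; exact hx⟩
      obtain ⟨e⟩ := test_iso (P₂.ι ≫ p) q₂ F ((DCoh.Lpull P₂.ι).obj K)
      obtain ⟨e1⟩ := hbc.app (X := DCoh.inD X F) (PerfB.StructFlat.isQCohD_inD hF.1)
      obtain ⟨e2⟩ := h F hZ
      let e3 : (fm (P₂.ι ≫ p) q₂ ((DCoh.Lpull P₂.ι).obj K)).obj (DCoh.inD X F) ≅
          DCoh.inD V₂ ((Scheme.Modules.pullback V₂.ι).obj F) :=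
        (fm (P₂.ι ≫ p) q₂ ((DCoh.Lpull P₂.ι).obj K)).mapIso ((K354.Diag.lpullId X).symm.app _) ≪≫ e1 ≪≫
          (DCoh.Lpull V₂.ι).mapIso e2 ≪≫ lpullInD V₂.ι F
      refine IsZero.of_iso ?_ ((DerivedCategory.homologyFunctor _ j).mapIso (e ≪≫ e3))
      refine Functor.map_isZero _ (Functor.map_isZero _ ?_)
      apply CohqB.DevSupport.isZero_of_support_eq_empty
      refine Set.eq_empty_of_subset_empty ((FormalA.Support.support_pullback_subset V₂.ι F hF.2).trans ?_)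
      intro v hv
      exact hV₂' v.2 (hFs hv)
  rw [PerfC.Supp.supp_congr ((Dcoh.DerPull.lpullOpenIso P₂.ι).app K), PerfC.Supp.supp_restrictD] at key
  exact key

end K352.FMTest
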