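import Groth.Agent.DEquiv.K352.FMLocal
import Groth.Agent.DEquiv.K352.FMMax
import Groth.Agent.DEquiv.K352.FMLoc
import Groth.Agent.DEquiv.K352.FMTest
import Groth.Agent.PerfA.PushD
import Groth.Agent.Dcoh.LocalD

/-!
# Localisation of a Fourier–Mukai functor isomorphic to the identity
-/

set_option autoImplicit false

universe u

open CategoryTheory CategoryTheory.Limits AlgebraicGeometry MonoidalCategory TopologicalSpace

attribute [local instance] HasDerivedCategory.standard Abelian.hasFiniteBiproducts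

open scoped Groth.Agent.Dcoh.MonCat Groth.Agent.Dcoh.ModD

namespace K352.FMGlob

open K353 K353.OnSub K353.Calc K353.Conv Groth.Agent Groth.Agent.LoccohB.SectLin303 K352.FMKill K352.FMSky

variable {X P : Scheme.{u}} (p q : P ⟶ X) (U : X.Opens)

/-- `p⁻¹ U ∩ q⁻¹ U`. -/
abbrev W₀ : P.Opens := p ⁻¹ᵁ U ⊓ q ⁻¹ᵁ U

/-- The first projection. -/
noncomputable def pW : (W₀ p q U : Scheme.{u}) ⟶ U :=
  IsOpenImmersion.lift U.ι ((W₀ p q U).ι ≫ p) (by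
    rw [Scheme.Opens.range_ι]
    rintro _ ⟨w, rfl⟩
    exact w.2.1)

/-- The second projection. -/
noncomputable def qW : (W₀ p q U : Scheme.{u}) ⟶ U :=
  IsOpenImmersion.lift U.ι ((W₀ p q U).ι ≫ q) (by
    rw [Scheme.Opens.range_ι]
    rintro _ ⟨w, rfl⟩
    exact w.2.2)

@[reassoc]
lemma pW_ι : pW p q U ≫ U.ι = (W₀ p q U).ι ≫ p := IsOpenImmersion.lift_fac _ _ _

@[reassoc]
lemma qW_ι : qW p q U ≫ U.ι = (W₀ p q U).ι ≫ q := IsOpenImmersion.lift_fac _ _ _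

/-- The inclusion in `p⁻¹ U`. -/
noncomputable abbrev hW : (W₀ p q U : Scheme.{u}) ⟶ (p ⁻¹ᵁ U : P.Opens) := P.homOfLE inf_le_left

lemma sq₂ : IsPullback (hW p q U) (qW p q U) ((p ⁻¹ᵁ U).ι ≫ q) U.ι := by
  refine (IsOpenImmersion.isPullback (qW p q U) (hW p q U) U.ι ((p ⁻¹ᵁ U).ι ≫ q) ?_ ?_).flip
  · rw [qW_ι, Scheme.homOfLE_ι_assoc]
  · ext w
    simp only [Scheme.Opens.opensRange_ι]
    constructor
    · intro hw
      exact ⟨⟨(p ⁻¹ᵁ U).ι w, w.2, hw⟩, by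
        apply (p ⁻¹ᵁ U).ι.isOpenEmbedding.injective
        rw [← Scheme.Hom.comp_apply, Scheme.homOfLE_ι]
        rfl⟩
    · rintro ⟨v, rfl⟩
      have h1 : (p ⁻¹ᵁ U).ι (hW p q U v) = (W₀ p q U).ι v := by
        rw [← Scheme.Hom.comp_apply, Scheme.homOfLE_ι]
      change q ((p ⁻¹ᵁ U).ι (hW p q U v)) ∈ U
      rw [h1]
      exact v.2.2

/-- The objects of `D_QCoh(O_U)` with perfect direct image. -/
def SU [DCoh.HasRpush U.ι] : ObjectProperty (DCoh.D U) := fun F => qc U F ∧ DCoh.IsPerfect ((DCoh.Rpush U.ι).obj F)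

/-- The localised functor is isomorphic to the identity on the objects with perfect direct image. -/
theorem isoOn_loc [QuasiCompact q] [QuasiSeparated q] [QuasiCompact U.ι] [QuasiSeparated U.ι]
    [DCoh.HasLpull p] [DCoh.HasRpush q] [DCoh.HasRpush U.ι] [DCoh.HasLpull (pW p q U)] [DCoh.HasRpush (qW p q U)]
    [DCoh.HasLpull (W₀ p q U).ι]
    (K : DCoh.D P) (hK : qc P K) (h : IsoOn (SGA6.perfP X) (fm p q K) (𝟭 _)) :
    IsoOn (SU U) (fm (pW p q U) (qW p q U) ((DCoh.Lpull (W₀ p q U).ι).obj K)) (𝟭 _) := by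
  have := hasLpull U.ι
  have e1 : IsoOn (qc U) (DCoh.Rpush U.ι ⋙ fm p q K ⋙ DCoh.Lpull U.ι)
      (fm (pW p q U) (qW p q U) ((DCoh.Lpull (W₀ p q U).ι).obj K)) :=
    FMLoc.fm_loc (l := (p ⁻¹ᵁ U).ι) (p₁ := p ∣_ U) (isPullback_morphismRestrict p U).flip (h := hW p q U)
      (sq₂ p q U) (pW p q U) (by
        rw [← cancel_mono U.ι, Category.assoc, morphismRestrict_ι, Scheme.homOfLE_ι_assoc, pW_ι]) (W₀ p q U).ι
      (Scheme.homOfLE_ι _ _) K hK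
  have e2 : IsoOn (SU U) (DCoh.Rpush U.ι ⋙ (fm p q K ⋙ DCoh.Lpull U.ι)) (DCoh.Rpush U.ι ⋙ (𝟭 _ ⋙ DCoh.Lpull U.ι)) :=
    (h.whiskerRight (DCoh.Lpull U.ι)).whiskerLeft (DCoh.Rpush U.ι) (fun F hF => hF.2)
  have e3 : DCoh.Rpush U.ι ⋙ (𝟭 _ ⋙ DCoh.Lpull U.ι) ≅ 𝟭 (DCoh.D U) :=
    Functor.isoWhiskerLeft (DCoh.Rpush U.ι) (Dcoh.DerPull.lpullOpenIso U.ι) ≪≫ PerfA.PushD.rpushRestrictIso U.ι
  exact ((e1.mono (fun F hF => hF.1)).symm.trans e2).trans (IsoOn.of_iso e3)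

/-- Multiplication by functions on a restriction. -/
theorem smul_restrict {M : P.Modules} {W : P.Opens} (c : Γ(P, W)) (e : (⊤ : (W : Scheme.{u}).Opens) ≤ W.ι ⁻¹ᵁ W)
    (h : ∀ s : Γ(M.restrict W.ι, ⊤), (W.ι.appLE W ⊤ e c) • s = 0) (m : Γ(M, W)) : c • m = 0 := by
  have hle : W.ι ''ᵁ ⊤ ≤ W := W.ι_image_top.le
  have hle' : W ≤ W.ι ''ᵁ ⊤ := W.ι_image_top.ge
  have h1 : (W.ι.appIso ⊤).inv (W.ι.appLE W ⊤ e c) • (M.presheaf.map (homOfLE hle).op m) = 0 :=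
    h (M.presheaf.map (homOfLE hle).op m)
  have h2 : (W.ι.appIso ⊤).inv (W.ι.appLE W ⊤ e c) = P.presheaf.map (homOfLE hle).op c :=
    ConcreteCategory.congr_hom (W.ι.appLE_appIso_inv (U := W) (V := ⊤) e) c
  rw [h2, ← Scheme.Modules.map_smul] at h1
  have h3 := congrArg (fun z => M.presheaf.map (homOfLE hle').op z) h1
  simp only [map_zero] at h3
  rw [← AddCommGrpCat.comp_apply, ← Functor.map_comp] at h3
  have h4 : M.presheaf.map ((homOfLE hle).op ≫ (homOfLE hle').op) = 𝟙 _ := M.presheaf.map_id _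
  rw [h4] at h3
  exact h3

theorem appLE_appLE {W' P' X' U' : Scheme.{u}} (pW : W' ⟶ U') (ι : U' ⟶ X') (j : W' ⟶ P') (p : P' ⟶ X')
    (w : pW ≫ ι = j ≫ p) {U : X'.Opens} {W : P'.Opens} (e : ⊤ ≤ j ⁻¹ᵁ W) (e' : ⊤ ≤ ι ⁻¹ᵁ U) (e'' : W ≤ p ⁻¹ᵁ U)
    (a : Γ(X', U)) : j.appLE W ⊤ e (p.appLE U W e'' a) = pW.appTop (ι.appLE U ⊤ e' a) := by
  have h1 : p.appLE U W e'' ≫ j.appLE W ⊤ e = ι.appLE U ⊤ e' ≫ pW.appTop := by
    have h2 : pW.appTop = pW.appLE ⊤ ⊤ le_top := (pW.appLE_eq_app (U := ⊤)).symm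
    rw [h2, Scheme.Hom.appLE_comp_appLE, Scheme.Hom.appLE_comp_appLE]
    simp only [w]
  exact ConcreteCategory.congr_hom h1 a

variable {U}

theorem smul_eq_zero [IsNoetherian X] [JacobsonSpace X] [X.IsSeparated] (hreg : Models.IsRegularScheme X)
    [IsLocallyNoetherian P] (hU : IsAffineOpen U) (hW : IsAffineOpen (W₀ p q U)) [LocallyOfFiniteType p]
    [QuasiCompact q] [QuasiSeparated q] [DCoh.HasLpull p] [DCoh.HasRpush q] (K : DCoh.D P)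
    (hK : DCoh.IsPerfect K) (hKj : ∀ j : ℤ, j ≠ 0 → IsZero (DCoh.HD K j))
    (h : IsoOn (SGA6.perfP X) (fm p q K) (𝟭 _)) (a : Γ(X, U)) (m : Γ(DCoh.HD K 0, W₀ p q U)) :
    (p.appLE U (W₀ p q U) inf_le_left a - q.appLE U (W₀ p q U) inf_le_right a) • m = 0 := by
  have := hasRpush U.ι
  have := hasLpull (pW p q U)
  have := hasRpush (qW p q U)
  have := hasLpull (W₀ p q U).ι
  have hU' : IsAffine (U : Scheme.{u}) := hU
  have hW' : IsAffine (W₀ p q U : Scheme.{u}) := hW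
  have hKq : qc P K := fun i => (K358.VanTest.isCohD_of_isPerfect K hK i).1
  let KW := (DCoh.Lpull (W₀ p q U).ι).obj K
  have eH : ∀ j, DCoh.HD KW j ≅ (DCoh.HD K j).restrict (W₀ p q U).ι := fun j =>
    (DerivedCategory.homologyFunctor _ j).mapIso ((Dcoh.DerPull.lpullOpenIso (W₀ p q U).ι).app K) ≪≫
      Dcoh.LocalD.HDRestrict (W₀ p q U).ι K j
  have hKW : qc _ KW := qc_lpull _ K hKq
  have hLE : KW.IsLE 0 := by
    rw [DerivedCategory.isLE_iff]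
    intro j hj
    exact IsZero.of_iso (Functor.map_isZero (Scheme.Modules.restrictFunctor (W₀ p q U).ι) (hKj j (by omega))) (eH j)
  have hcoh : Coh.IsCoh (DCoh.HD KW 0) :=
    PerfA.CohSerre.isCoh_of_iso (eH 0).symm (PerfA.CohSerre.isCoh_restrict _ (K358.VanTest.isCohD_of_isPerfect K hK 0))
  have h1 := isoOn_loc p q U K hKq h
  have hJ : JacobsonSpace U := LocallyOfFiniteType.jacobsonSpace U.ι
  have hft : LocallyOfFiniteType (pW p q U) := by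
    have : LocallyOfFiniteType (pW p q U ≫ U.ι) := by
      rw [pW_ι]
      infer_instance
    exact locallyOfFiniteType_of_comp (pW p q U) U.ι
  obtain ⟨Ψ⟩ := FMLocal.exists_secs KW hKW
  have hap : ∀ a' : Γ(U, ⊤), ∀ s : Γ((DCoh.HD K 0).restrict (W₀ p q U).ι, ⊤),
      ((pW p q U).appTop a' - (qW p q U).appTop a') • s = 0 := by
    intro a' s
    have h2 := FMLocal.smul_eq_zero (pW p q U) (qW p q U) KW hKW hLE hcoh (SU U) h1
      (fun x hx r f hs => ⟨PerfB.StructFlat.isQCohD_inD (isCoh_quo f).1,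
        (isPerfect_rpush hreg U hU x hx (isCoh_quo f) hs).2.2⟩)
      (fun n hn => FMMax.comap_isMaximal (pW p q U) n hn) a' (Ψ.symm ((eH 0).inv.app ⊤ s))
    have h3 := congrArg (fun z => (eH 0).hom.app ⊤ (Ψ z)) h2
    simp only [map_smul, LinearEquiv.apply_symm_apply, map_zero, Scheme.Modules.Hom.app_smul] at h3
    rw [← AddCommGrpCat.comp_apply] at h3
    have h4 : (eH 0).inv.app ⊤ ≫ (eH 0).hom.app ⊤ = 𝟙 _ := by
      rw [← Scheme.Modules.Hom.comp_app, (eH 0).inv_hom_id]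
      rfl
    rw [h4] at h3
    exact h3
  have e : (⊤ : (W₀ p q U : Scheme.{u}).Opens) ≤ (W₀ p q U).ι ⁻¹ᵁ (W₀ p q U) := fun w _ => w.2
  have e' : (⊤ : (U : Scheme.{u}).Opens) ≤ U.ι ⁻¹ᵁ U := fun w _ => w.2
  refine smul_restrict _ e (fun s => ?_) m
  have h5 := hap (U.ι.appLE U ⊤ e' a) s
  have hp : (W₀ p q U).ι.appLE (W₀ p q U) ⊤ e (p.appLE U (W₀ p q U) inf_le_left a) =
      (pW p q U).appTop (U.ι.appLE U ⊤ e' a) := appLE_appLE _ _ _ _ (pW_ι p q U) _ _ _ _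
  have hq : (W₀ p q U).ι.appLE (W₀ p q U) ⊤ e (q.appLE U (W₀ p q U) inf_le_right a) =
      (qW p q U).appTop (U.ι.appLE U ⊤ e' a) := appLE_appLE _ _ _ _ (qW_ι p q U) _ _ _ _
  rw [map_sub, hp, hq]
  exact h5

end K352.FMGlob
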