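import Groth.Agent.PerfC.IsoLocus
import Groth.Agent.LoccohB.SectLin303
import Mathlib.Algebra.Homology.DerivedCategory.ShortExact
import Mathlib.CategoryTheory.Abelian.Exact

/-!
# Kernels of the maps induced by a right exact triangulated functor

`exists_sum`: `T : D(A) ⥤ D(B)` triangulated, `π : E ⟶ C` the cokernel of `(f₁, …, fₙ) : Eⁿ ⟶ E`: every `y : Z ⟶ T(E[0])` with
`y ≫ T(π) = 0` is of the form `∑ φ(fᵢ) • eᵢ`, if there are no maps from `Z` to `T(N[0])[1]`, `N` the kernel of
`Eⁿ ⟶ E`.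
-/

set_option autoImplicit false

universe w₁ w₂ v₁ v₂ u₁ u₂

open CategoryTheory CategoryTheory.Limits Pretriangulated
open Groth.Agent.PerfC.IsoLocus Groth.Agent.LoccohB.SectLin303

namespace K352.FMKer

variable {A : Type u₁} [Category.{v₁} A] [Abelian A] [HasDerivedCategory.{w₁} A]
  {B : Type u₂} [Category.{v₂} B] [Preadditive B] [HasZeroObject B] [HasShift B ℤ]
  [∀ n : ℤ, (shiftFunctor B n).Additive] [Pretriangulated B]
  {T : DerivedCategory A ⥤ B}

/-- Lifting through `T(E'[0]) ⟶ T(E[0])` for `E' ⟶ E ⟶ C` exact. -/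
theorem exists_lift (hT : IsTriang T) {E' E C : A} (α : E' ⟶ E) (π : E ⟶ C) (w : α ≫ π = 0)
    (hex : (ShortComplex.mk α π w).Exact) [Epi π] {Z : B}
    (hz : ∀ y : Z ⟶ T.obj (((DerivedCategory.singleFunctor A 0).obj (kernel α))⟦(1 : ℤ)⟧), y = 0)
    (y : Z ⟶ T.obj ((DerivedCategory.singleFunctor A 0).obj E))
    (hy : y ≫ T.map ((DerivedCategory.singleFunctor A 0).map π) = 0) :
    ∃ y' : Z ⟶ T.obj ((DerivedCategory.singleFunctor A 0).obj E'),
      y = y' ≫ T.map ((DerivedCategory.singleFunctor A 0).map α) := by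
  have h1 : (ShortComplex.mk (kernel.ι π) π (kernel.condition π)).ShortExact :=
    { exact := ShortComplex.exact_kernel π }
  obtain ⟨y₁, rfl⟩ := exact₂ hT h1.singleTriangle h1.singleTriangle_distinguished y hy
  let β : E' ⟶ kernel π := kernel.lift π α w
  have hβ : Epi β := (ShortComplex.exact_iff_epi_kernel_lift _).1 hex
  have hκ : kernel.ι α ≫ β = 0 := by
    rw [← cancel_mono (kernel.ι π), Category.assoc, kernel.lift_ι, kernel.condition, zero_comp]
  have h2 : (ShortComplex.mk (kernel.ι α) β hκ).ShortExact :=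
    { exact := by
        refine ShortComplex.exact_of_f_is_kernel _ ?_
        refine KernelFork.IsLimit.ofι _ _ (fun {W} g hg => kernel.lift α g ?_) (fun {W} g hg => kernel.lift_ι _ _ _)
          (fun {W} g hg m hm => ?_)
        · rw [← kernel.lift_ι π α w, ← Category.assoc]
          change (g ≫ β) ≫ _ = 0
          rw [hg, zero_comp]
        · rw [← cancel_mono (kernel.ι α), kernel.lift_ι]
          exact hm }
  have h3 : y₁ ≫ T.map h2.singleTriangle.mor₃ = 0 := hz _
  obtain ⟨y₂, rfl⟩ := exact₃ hT h2.singleTriangle h2.singleTriangle_distinguished y₁ h3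
  refine ⟨y₂, ?_⟩
  have h4 : (DerivedCategory.singleFunctor A 0).map β ≫ (DerivedCategory.singleFunctor A 0).map (kernel.ι π) =
      (DerivedCategory.singleFunctor A 0).map α := by
    rw [← Functor.map_comp, kernel.lift_ι]
  rw [← h4, T.map_comp, ← Category.assoc]
  rfl

variable {R S : Type*} [Ring R] [Ring S] [Linear R A] [Linear S B]
  [HasFiniteBiproducts A]

theorem exists_sum (hT : IsTriang T) (φ : R → S) (hφ : ∀ r : R, Inter T r (φ r)) {E C : A} {n : ℕ} (f : Fin n → R)
    (π : E ⟶ C) [Epi π] (w : biproduct.desc (fun i => f i • 𝟙 E) ≫ π = 0)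
    (hex : (ShortComplex.mk (biproduct.desc (fun i => f i • 𝟙 E)) π w).Exact) {Z : B}
    (hz : ∀ y : Z ⟶ T.obj (((DerivedCategory.singleFunctor A 0).obj
      (kernel (biproduct.desc (fun i => f i • 𝟙 E))))⟦(1 : ℤ)⟧), y = 0)
    (y : Z ⟶ T.obj ((DerivedCategory.singleFunctor A 0).obj E))
    (hy : y ≫ T.map ((DerivedCategory.singleFunctor A 0).map π) = 0) :
    ∃ e : Fin n → (Z ⟶ T.obj ((DerivedCategory.singleFunctor A 0).obj E)), y = ∑ i, φ (f i) • e i := by
  have := hT.additive
  obtain ⟨y', rfl⟩ := exists_lift hT _ π w hex hz y hy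
  refine ⟨fun i => y' ≫ T.map ((DerivedCategory.singleFunctor A 0).map (biproduct.π _ i)), ?_⟩
  have h1 : biproduct.desc (fun i => f i • 𝟙 E) = ∑ i, biproduct.π (fun _ : Fin n => E) i ≫ (f i • 𝟙 E) :=
    biproduct.desc_eq
  rw [h1, Functor.map_sum, Functor.map_sum, Preadditive.comp_sum]
  refine Finset.sum_congr rfl fun i _ => ?_
  rw [Functor.map_comp, Functor.map_comp, ← Category.assoc, Functor.map_smul, CategoryTheory.Functor.map_id, hφ,
    Linear.comp_smul, Category.comp_id]

end K352.FMKer
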