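import Groth.Agent.DEquiv.K352.FMKer
import Groth.Agent.DEquiv.K353.Conv
import Groth.Agent.Dual.H345.LinD
import Groth.Agent.Dual.H379.TensBound
import Groth.Agent.PerfC.ProjAbs291
import Groth.Agent.PerfC.PullKFlat
import Groth.Agent.PerfA.HypAffine
import Groth.Agent.PerfA.QCohSerre
import Groth.Agent.CohqA.HBiprod
import Groth.Agent.Dcoh.DualX
import Groth.Agent.PerfB.FibreZero
import Groth.Agent.PerfB.StructFlat

/-!
# Fourier–Mukai functors on affine schemes: multiplication by global functions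
-/

set_option autoImplicit false

universe u

open CategoryTheory CategoryTheory.Limits AlgebraicGeometry MonoidalCategory

attribute [local instance] HasDerivedCategory.standard Abelian.hasFiniteBiproducts

open scoped Groth.Agent.Dcoh.MonCat Groth.Agent.Dcoh.ModD

namespace K352.FMKill

open K353 K353.OnSub K353.Calc K353.Conv Groth.Agent Groth.Agent.PerfC.IsoLocus Groth.Agent.PerfC.DTens
  Groth.Agent.LoccohB.SectLin303

variable {V W : Scheme.{u}} (p : W ⟶ V) [DCoh.HasLpull p] (K : DCoh.D W)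

/-- `Lp^*(-) ⊗ K`. -/
noncomputable abbrev nf : DCoh.D V ⥤ DCoh.D W := DCoh.Lpull p ⋙ tensorRight K

theorem isTriang_nf : IsTriang (nf p K) := by
  obtain ⟨e⟩ := Groth.Agent.Dcoh.PerfDual.nonempty_flipIso K
  exact (PerfC.ProjAbs291.isTriang_Lpull p).comp ((isTriang_LTX_flip_obj K).of_iso e)

theorem inter_nf (a : Γ(V, ⊤)) : Inter (nf p K) a (p.appTop a) := by
  have := hasRpush p
  exact (Dual.H345.LinD.inter_lpull p (Dcoh.DerPull.lpullAdj p) a).comp
    (Dual.H345.LinD.inter_tensorRight K (p.appTop a))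

theorem isLE_nf (n : ℤ) (hK : K.IsLE 0) (F : DCoh.D V) (hF : F.IsLE n) : ((nf p K).obj F).IsLE n := by
  have h1 := PerfC.RelFlatLpull.isLE_lpull (PerfC.PullKFlat.pullData p) F n
  have h2 := Dual.H379.TensBound.isLE_tensor ((DCoh.Lpull p).obj F) K n 0
  rwa [add_zero] at h2

theorem qc_nf (hK : qc W K) (F : DCoh.D V) (hF : qc V F) : qc W ((nf p K).obj F) :=
  qc_tensor _ _ (qc_lpull p F hF) hK

omit [DCoh.HasLpull p] in
theorem hom_zero [IsAffine W] (C : DCoh.D W) (hC : qc W C) (h : C.IsLE (-1))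
    (y : DCoh.inD W (Coh.structureModule W) ⟶ C) : y = 0 := by
  have hz : IsZero (DCoh.HD C 0) := (DerivedCategory.isLE_iff C (-1)).1 h 0 (by omega)
  refine (PerfA.HypAffine.unit_bijective C hC 0).1 ?_
  have h1 : ∀ z z' : Coh.structureModule W ⟶ DCoh.HD C 0, z = z' := fun z z' => hz.eq_of_tgt _ _
  exact congrArg _ (h1 _ _)

/-- `Lp^* O ⊗ K ≅ K`. -/
noncomputable def nfO : (nf p K).obj (DCoh.inD V (Coh.structureModule V)) ≅ K :=
  (tensorRight K).mapIso (PerfB.FibreZero.lpullStructure p ≪≫ Dcoh.DualX.unitIso W) ≪≫ λ_ K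

/-- Maps `O_W ⟶ NF(O_V)` killed by `NF(O_V) ⟶ NF(C)`, `C = O_V/(f₁, …, fₙ)`. -/
theorem exists_sum [IsAffine W] (hK : qc W K) (hK' : K.IsLE 0) {n : ℕ} (f : Fin n → Γ(V, ⊤)) {C : V.Modules}
    (π : Coh.structureModule V ⟶ C) [Epi π]
    (w : biproduct.desc (fun i => f i • 𝟙 (Coh.structureModule V)) ≫ π = 0)
    (hex : (ShortComplex.mk (biproduct.desc (fun i => f i • 𝟙 (Coh.structureModule V))) π w).Exact)
    (y : DCoh.inD W (Coh.structureModule W) ⟶ (nf p K).obj (DCoh.inD V (Coh.structureModule V)))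
    (hy : y ≫ (nf p K).map ((DerivedCategory.singleFunctor V.Modules 0).map π) = 0) :
    ∃ e : Fin n → (DCoh.inD W (Coh.structureModule W) ⟶ (nf p K).obj (DCoh.inD V (Coh.structureModule V))),
      y = ∑ i, p.appTop (f i) • e i := by
  refine FMKer.exists_sum (isTriang_nf p K) (fun a => p.appTop a) (inter_nf p K) f π w hex (fun z => ?_) y hy
  have hN : Coh.IsQCoh (kernel (biproduct.desc (fun i => f i • 𝟙 (Coh.structureModule V)))) :=
    PerfA.QCohSerre.isQCoh_kernel _ (CohqA.HBiprod.isQCoh_biproduct _ fun _ => Ega2.QCohLocal.isQCoh_structureModule V)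
      (Ega2.QCohLocal.isQCoh_structureModule V)
  refine hom_zero _ (qc_nf p K hK _ ?_) (isLE_nf p K _ hK' _ ?_) z
  · exact PerfA.QCohD.isQCohD_shift (PerfB.StructFlat.isQCohD_inD hN) 1
  · exact DerivedCategory.TStructure.t.isLE_shift _ 0 1 (-1) (by omega)

/-- If `Rq_*` kills multiplication by `κ` on `N`, then so does `Hom(O_W, -)`. -/
theorem smul_eq_zero {V' : Scheme.{u}} (q : W ⟶ V') [DCoh.HasRpush q] (κ : Γ(W, ⊤)) (N : DCoh.D W)
    (h : (DCoh.Rpush q).map (κ • 𝟙 N) = 0) (m : DCoh.inD W (Coh.structureModule W) ⟶ N) : κ • m = 0 := by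
  have := hasLpull q
  let e : (DCoh.Lpull q).obj (DCoh.inD V' (Coh.structureModule V')) ≅ DCoh.inD W (Coh.structureModule W) :=
    PerfB.FibreZero.lpullStructure q
  have h1 : (e.hom ≫ m) ≫ (κ • 𝟙 N) = 0 := by
    apply ((Dcoh.DerPull.lpullAdj q).homEquiv _ _).injective
    have := (PerfC.ProjAbs291.isTriang_Rpush q).additive
    rw [Adjunction.homEquiv_naturality_right, h, comp_zero, Adjunction.homEquiv_unit, Functor.map_zero,
      comp_zero]
  rw [Linear.comp_smul, Category.comp_id, ← cancel_epi e.inv, Linear.comp_smul, e.inv_hom_id_assoc, comp_zero] at h1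
  exact h1

/-- The difference of the two multiplications is killed by `Rq_*`. -/
theorem map_smul_eq_zero (q : W ⟶ V) [DCoh.HasRpush q] (S : ObjectProperty (DCoh.D V))
    (h : IsoOn S (fm p q K) (𝟭 _)) (F : DCoh.D V) (hF : S F) (a : Γ(V, ⊤)) :
    (DCoh.Rpush q).map ((p.appTop a - q.appTop a) • 𝟙 ((nf p K).obj F)) = 0 := by
  obtain ⟨θ⟩ := h
  let θF : (fm p q K).obj F ≅ F := θ.app ⟨F, hF⟩
  have nat : (fm p q K).map (a • 𝟙 F) ≫ θF.hom = θF.hom ≫ (a • 𝟙 F) :=
    θ.hom.naturality (X := ⟨F, hF⟩) (Y := ⟨F, hF⟩) (ObjectProperty.homMk (a • 𝟙 F))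
  have h1 : (fm p q K).map (a • 𝟙 F) = (DCoh.Rpush q).map (p.appTop a • 𝟙 ((nf p K).obj F)) := by
    rw [← inter_nf p K a]
    rfl
  have h2 : (DCoh.Rpush q).map (q.appTop a • 𝟙 ((nf p K).obj F)) = a • 𝟙 _ := inter_rpush q a _
  have h3 : (DCoh.Rpush q).map (p.appTop a • 𝟙 ((nf p K).obj F)) = (DCoh.Rpush q).map (q.appTop a • 𝟙 ((nf p K).obj F)) := by
    rw [← cancel_mono θF.hom, h2, ← h1, nat, Linear.comp_smul, Linear.smul_comp, Category.comp_id]
    congr 1
    exact (Category.id_comp _).symm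
  have := (PerfC.ProjAbs291.isTriang_Rpush q).additive
  rw [sub_smul, Functor.map_sub, h3, sub_self]

/-- The multiplications by `p^♯ a` and `q^♯ a` agree on `Hom(O_W, K)` modulo `(f₁, …, fₙ)`. -/
theorem exists_smul [IsAffine W] (q : W ⟶ V) [DCoh.HasRpush q] (S : ObjectProperty (DCoh.D V))
    (h : IsoOn S (fm p q K) (𝟭 _)) (hK : qc W K) (hK' : K.IsLE 0) {n : ℕ} (f : Fin n → Γ(V, ⊤)) {C : V.Modules}
    (π : Coh.structureModule V ⟶ C) [Epi π]
    (w : biproduct.desc (fun i => f i • 𝟙 (Coh.structureModule V)) ≫ π = 0)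
    (hex : (ShortComplex.mk (biproduct.desc (fun i => f i • 𝟙 (Coh.structureModule V))) π w).Exact)
    (hC : S (DCoh.inD V C)) (a : Γ(V, ⊤)) (y : DCoh.inD W (Coh.structureModule W) ⟶ K) :
    ∃ e : Fin n → (DCoh.inD W (Coh.structureModule W) ⟶ K),
      (p.appTop a - q.appTop a) • y = ∑ i, p.appTop (f i) • e i := by
  have h1 := smul_eq_zero q (p.appTop a - q.appTop a) _ (map_smul_eq_zero p K q S h (DCoh.inD V C) hC a)
    ((y ≫ (nfO p K).inv) ≫ (nf p K).map ((DerivedCategory.singleFunctor V.Modules 0).map π))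
  rw [← Linear.smul_comp] at h1
  obtain ⟨e, he⟩ := exists_sum p K hK hK' f π w hex _ h1
  refine ⟨fun i => e i ≫ (nfO p K).hom, ?_⟩
  have h2 : ((p.appTop a - q.appTop a) • (y ≫ (nfO p K).inv)) ≫ (nfO p K).hom =
      (p.appTop a - q.appTop a) • y := by
    rw [Linear.smul_comp, Category.assoc, (nfO p K).inv_hom_id, Category.comp_id]
  rw [← h2, he, Preadditive.sum_comp]
  exact Finset.sum_congr rfl fun i _ => Linear.smul_comp _ _ _ _ _ _

end K352.FMKill
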