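import Groth.Prelude.Def_KLin
import Groth.Prelude.Def_SGA6
import Mathlib.Algebra.Homology.DerivedCategory.Linear
import Mathlib.Algebra.Homology.DerivedCategory.ExactFunctor
import Mathlib.Algebra.Homology.ShortComplex.Linear

/-!
# Linearity of the standard functors on derived categories

* `linear_homologyFunctor`, `linear_mapDerivedCategory`: linearity over a ring `R`;
* `linear_leftAdjoint`, `linear_rightAdjoint`: adjoints of linear functors are linear;
* `linear_pullback`: `f^*` is `A`-linear for `f` over `Spec A`.
-/

set_option autoImplicit false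

universe t w w' v v' u u'

open CategoryTheory CategoryTheory.Limits AlgebraicGeometry Opposite

namespace K352.Lin

section Derived

variable (R : Type t) [Ring R]

theorem linear_homotopy_homologyFunctor (C : Type u) [Category.{v} C] [Abelian C] [Linear R C] (n : ℤ) :
    (HomotopyCategory.homologyFunctor C (ComplexShape.up ℤ) n).Linear R := by
  have h1 : (HomologicalComplex.homologyFunctor C (ComplexShape.up ℤ) n).Linear R :=
    ⟨fun {K L} f r => ShortComplex.homologyMap_smul
      ((HomologicalComplex.shortComplexFunctor C (ComplexShape.up ℤ) n).map f) r⟩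
  have h2 : (HomotopyCategory.quotient C (ComplexShape.up ℤ) ⋙
      HomotopyCategory.homologyFunctor C (ComplexShape.up ℤ) n).Linear R :=
    Functor.linear_of_iso _ (HomotopyCategory.homologyFunctorFactors C (ComplexShape.up ℤ) n).symm
  exact Functor.linear_of_full_essSurj_comp (HomotopyCategory.quotient C (ComplexShape.up ℤ)) _

theorem linear_homologyFunctor (C : Type u) [Category.{v} C] [Abelian C] [Linear R C]
    [HasDerivedCategory.{w} C] (n : ℤ) : (DerivedCategory.homologyFunctor C n).Linear R := by
  have h1 := linear_homotopy_homologyFunctor R C n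
  have h2 : (DerivedCategory.Qh ⋙ DerivedCategory.homologyFunctor C n).Linear R :=
    Functor.linear_of_iso _ (DerivedCategory.homologyFunctorFactorsh C n).symm
  let _ : Localization.Lifting DerivedCategory.Qh (HomotopyCategory.quasiIso C (ComplexShape.up ℤ))
    (DerivedCategory.Qh ⋙ DerivedCategory.homologyFunctor C n) (DerivedCategory.homologyFunctor C n) :=
    ⟨Iso.refl _⟩
  exact (Localization.functor_linear_iff DerivedCategory.Qh
    (HomotopyCategory.quasiIso C (ComplexShape.up ℤ)) R
    (DerivedCategory.Qh ⋙ DerivedCategory.homologyFunctor C n) _).1 h2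

theorem linear_mapDerivedCategory {C : Type u} [Category.{v} C] [Abelian C] [Linear R C]
    [HasDerivedCategory.{w} C] {D : Type u'} [Category.{v'} D] [Abelian D] [Linear R D]
    [HasDerivedCategory.{w'} D] (F : C ⥤ D) [F.Additive] [F.Linear R]
    [PreservesFiniteLimits F] [PreservesFiniteColimits F] : F.mapDerivedCategory.Linear R := by
  have h2 : (DerivedCategory.Qh ⋙ F.mapDerivedCategory).Linear R :=
    Functor.linear_of_iso _ (F.mapDerivedCategoryFactorsh).symm
  let _ : Localization.Lifting DerivedCategory.Qh (HomotopyCategory.quasiIso C (ComplexShape.up ℤ))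
    (DerivedCategory.Qh ⋙ F.mapDerivedCategory) F.mapDerivedCategory :=
    ⟨Iso.refl _⟩
  exact (Localization.functor_linear_iff DerivedCategory.Qh
    (HomotopyCategory.quasiIso C (ComplexShape.up ℤ)) R
    (DerivedCategory.Qh ⋙ F.mapDerivedCategory) _).1 h2

end Derived

section Adj

variable (R : Type t) [Ring R] {C : Type u} [Category.{v} C] [Preadditive C] [Linear R C]
  {D : Type u'} [Category.{v'} D] [Preadditive D] [Linear R D] {F : C ⥤ D} {G : D ⥤ C}
  (adj : F ⊣ G)

include adj in
theorem linear_leftAdjoint [F.Additive] [G.Linear R] : F.Linear R := by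
  rw [Functor.linear_iff]
  intro X r
  apply (adj.homEquiv _ _).injective
  rw [Adjunction.homEquiv_unit, Adjunction.homEquiv_unit, G.map_smul, G.map_id]
  have h : r • 𝟙 X ≫ adj.unit.app X = r • adj.unit.app X :=
    congrArg (r • ·) (Category.id_comp (adj.unit.app X))
  have := adj.unit.naturality (r • 𝟙 X)
  rw [Functor.id_map, Functor.comp_map, Linear.smul_comp, h] at this
  rw [Linear.comp_smul]
  exact this.symm.trans (congrArg (r • ·) (Category.comp_id (adj.unit.app X)).symm)

include adj in
theorem linear_rightAdjoint [G.Additive] [F.Linear R] : G.Linear R := by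
  rw [Functor.linear_iff]
  intro X r
  apply (adj.homEquiv _ _).symm.injective
  rw [Adjunction.homEquiv_counit, Adjunction.homEquiv_counit, F.map_smul, F.map_id]
  have h : r • adj.counit.app X ≫ 𝟙 X = r • adj.counit.app X :=
    congrArg (r • ·) (Category.comp_id (adj.counit.app X))
  have := adj.counit.naturality (r • 𝟙 X)
  rw [Functor.id_map, Functor.comp_map, Linear.comp_smul, h] at this
  rw [Linear.smul_comp, Category.id_comp]
  exact this

end Adj

section Sch

variable {A : Type u} [CommRing A] {X Y : Scheme.{u}} [X.Over (Spec (CommRingCat.of A))]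
  [Y.Over (Spec (CommRingCat.of A))] (f : X ⟶ Y) [f.IsOver (Spec (CommRingCat.of A))]

attribute [local instance] preservesBinaryBiproducts_of_preservesBinaryCoproducts in
theorem additive_pullback {X Y : Scheme.{u}} (f : X ⟶ Y) : (Scheme.Modules.pullback f).Additive :=
  Functor.additive_of_preservesBinaryBiproducts _

/-- `f^*` is `A`-linear for `f` over `Spec A`. -/
theorem linear_pullback : (Scheme.Modules.pullback f).Linear A :=
  haveI := additive_pullback f
  linear_leftAdjoint A (Scheme.Modules.pullbackPushforwardAdjunction f)

end Sch

end K352.Lin
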