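import Groth.Agent.DEquiv.K352.FMSky
import Groth.Agent.DEquiv.K352.Lin
import Groth.Agent.Ega3B.DevQC
import Mathlib.RingTheory.Filtration

/-!
# Kernels with Fourier–Mukai functor isomorphic to the identity: the local statement

`smul_eq_zero`: on `W = V × V`, `V` affine, the differences `p^♯ a - q^♯ a` kill `Hom(O_W, K)`.
-/

set_option autoImplicit false

universe u

open CategoryTheory CategoryTheory.Limits AlgebraicGeometry MonoidalCategory TopologicalSpace

attribute [local instance] HasDerivedCategory.standard Abelian.hasFiniteBiproducts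

open scoped Groth.Agent.Dcoh.MonCat Groth.Agent.Dcoh.ModD

namespace K352.FMLocal

open K353 K353.OnSub K353.Calc K353.Conv Groth.Agent Groth.Agent.LoccohB.SectLin303 K352.FMKill K352.FMSky

section Alg

/-- An element of all `𝔫^n M` is zero. -/
theorem eq_zero_of_mem {B : Type*} [CommRing B] [IsNoetherianRing B] {M : Type*} [AddCommGroup M] [Module B M]
    [Module.Finite B M] (y : M) (h : ∀ (n : Ideal B), n.IsMaximal → ∀ (i : ℕ), y ∈ (n ^ i • ⊤ : Submodule B M)) :
    y = 0 := by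
  by_contra hy
  have h1 : LinearMap.ker (LinearMap.toSpanSingleton B M y) ≠ ⊤ := by
    intro h2
    have h3 : (1 : B) ∈ LinearMap.ker (LinearMap.toSpanSingleton B M y) := by
      rw [h2]
      trivial
    rw [LinearMap.mem_ker, LinearMap.toSpanSingleton_apply, one_smul] at h3
    exact hy h3
  obtain ⟨n, hn, hle⟩ := Ideal.exists_le_maximal _ h1
  obtain ⟨r, hr⟩ := (Ideal.mem_iInf_smul_pow_eq_bot_iff n y).1 ((Submodule.mem_iInf _).2 (h n hn))
  have h2 : 1 - (r : B) ∈ n := by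
    apply hle
    rw [LinearMap.mem_ker, LinearMap.toSpanSingleton_apply, sub_smul, one_smul, hr, sub_self]
  exact (Ideal.ne_top_iff_one n).1 hn.ne_top (by simpa using n.add_mem h2 r.2)

end Alg

variable {W : Scheme.{u}}

/-- `Hom(O_W, K) = Γ(W, H^0(K))`, linearly. -/
theorem exists_secs [IsAffine W] (K : DCoh.D W) (hK : qc W K) :
    Nonempty ((DCoh.inD W (Coh.structureModule W) ⟶ K) ≃ₗ[Γ(W, ⊤)] Γ(DCoh.HD K 0, ⊤)) := by
  have hlin := Lin.linear_homologyFunctor Γ(W, ⊤) W.Modules 0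
  refine ⟨LinearEquiv.ofBijective
    { toFun := fun φ => Groth.Agent.Dcoh.Restrict.unitEquiv (DCoh.HD K 0) (PerfA.Hyp0.toH φ)
      map_add' := fun φ ψ => ?_
      map_smul' := fun r φ => ?_ } (PerfA.HypAffine.unit_bijective K hK 0)⟩
  · simp only [PerfA.Hyp0.toH, Functor.map_add, Preadditive.comp_add, map_add]
  · have h1 : PerfA.Hyp0.toH (r • φ) = r • PerfA.Hyp0.toH φ := by
      simp only [PerfA.Hyp0.toH, Functor.map_smul, Linear.comp_smul]
    rw [h1]
    have h2 := smul_app r (PerfA.Hyp0.toH φ) ⊤ (Groth.Agent.Dcoh.Restrict.one ⊤)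
    have h3 : LoccohB.GlueHom.resO (le_top : (⊤ : W.Opens) ≤ ⊤) r = r :=
      ConcreteCategory.congr_hom (W.presheaf.map_id (Opposite.op ⊤)) r
    rw [h3] at h2
    exact h2

/-- **The local statement.** -/
theorem smul_eq_zero {V : Scheme.{u}} [IsAffine V] [IsAffine W] [IsLocallyNoetherian V] [IsLocallyNoetherian W]
    (p q : W ⟶ V) [DCoh.HasLpull p] [DCoh.HasRpush q] (K : DCoh.D W) (hK : qc W K) (hK' : K.IsLE 0)
    (hcoh : Coh.IsCoh (DCoh.HD K 0)) (S : ObjectProperty (DCoh.D V)) (h : IsoOn S (fm p q K) (𝟭 _))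
    (hS : ∀ (x : V), IsClosed ({x} : Set V) → ∀ (r : ℕ) (f : Fin r → Γ(V, ⊤)), CohB1.support (quo f) ⊆ {x} →
      S (DCoh.inD V (quo f)))
    (hmax : ∀ n : Ideal Γ(W, ⊤), n.IsMaximal → (n.comap p.appTop.hom).IsMaximal)
    (a : Γ(V, ⊤)) (y : DCoh.inD W (Coh.structureModule W) ⟶ K) : (p.appTop a - q.appTop a) • y = 0 := by
  obtain ⟨Ψ⟩ := exists_secs K hK
  have h1 : Module.Finite Γ(W, ⊤) Γ(DCoh.HD K 0, ⊤) := Ega3B.DevQC.finite_sections hcoh (isAffineOpen_top W)
  have h2 : Module.Finite Γ(W, ⊤) (DCoh.inD W (Coh.structureModule W) ⟶ K) := Module.Finite.equiv Ψ.symm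
  have h3 : IsNoetherianRing Γ(W, ⊤) := IsLocallyNoetherian.component_noetherian ⟨⊤, isAffineOpen_top W⟩
  refine eq_zero_of_mem (B := Γ(W, ⊤)) _ fun n hn i => ?_
  have := hmax n hn
  obtain ⟨x, hx, r, f, hf, hs⟩ := exists_gens (n.comap p.appTop.hom) i
  obtain ⟨e, he⟩ := FMKill.exists_smul p K q S h hK hK' f (cokernel.π (ofn f)) (cokernel.condition _)
    (ShortComplex.exact_cokernel _) (hS x hx r f hs) a y
  rw [he]
  refine Submodule.sum_mem _ fun j _ => Submodule.smul_mem_smul ?_ trivial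
  have h4 : f j ∈ (n.comap p.appTop.hom) ^ i := by
    rw [← hf]
    exact Ideal.subset_span ⟨j, rfl⟩
  exact Ideal.le_comap_pow p.appTop.hom i h4

end K352.FMLocal
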