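import Groth.Agent.DEquiv.K352.FMKill
import Groth.Agent.DEquiv.K352.Sky
import Groth.Agent.PerfC.RpushAffine
import Groth.Agent.PerfA.CohZero
import Groth.Agent.Fdesc.StructMod
import Groth.Agent.S0048

/-!
# Quotients of the structure sheaf by finitely many global functions, and their direct images
-/

set_option autoImplicit false

universe u

open CategoryTheory CategoryTheory.Limits AlgebraicGeometry MonoidalCategory TopologicalSpace

attribute [local instance] HasDerivedCategory.standard Abelian.hasFiniteBiproducts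

namespace K352.FMSky

open Groth.Agent Groth.Agent.LoccohB.SectLin303

/-- `Rf_* M = f_* M` for `f` affine and `M` quasi-coherent. -/
theorem nonempty_rpush {X Y : Scheme.{u}} (f : X ⟶ Y) [IsAffineHom f] [DCoh.HasRpush f] (M : X.Modules)
    (hM : Coh.IsQCoh M) :
    Nonempty ((DCoh.Rpush f).obj (DCoh.inD X M) ≅ DCoh.inD Y ((Scheme.Modules.pushforward f).obj M)) := by
  have hK : ∀ n, Coh.IsQCoh (((CochainComplex.singleFunctor X.Modules 0).obj M).X n) := by
    intro n
    by_cases hn : n = 0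
    · subst hn
      exact Ega2.QCohLocal.isQCoh_of_iso
        (HomologicalComplex.singleObjXSelf (ComplexShape.up ℤ) 0 M).symm hM
    · exact PerfA.CohZero.isQCoh_of_isZero (HomologicalComplex.isZero_single_obj_X _ 0 M n hn)
  exact ⟨(DCoh.Rpush f).mapIso ((DerivedCategory.singleFunctorIsoCompQ X.Modules 0).app M) ≪≫
    PerfC.RpushAffine.rpushIsoOfQCoh f _ hK ≪≫
    DerivedCategory.Q.mapIso ((HomologicalComplex.singleMapHomologicalComplex
      (Scheme.Modules.pushforward f) (ComplexShape.up ℤ) 0).app M) ≪≫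
    ((DerivedCategory.singleFunctorIsoCompQ Y.Modules 0).app _).symm⟩

variable {V : Scheme.{u}} {n : ℕ} (f : Fin n → Γ(V, ⊤))

/-- `(f₁, …, fₙ) : O^n ⟶ O`. -/
noncomputable abbrev ofn : (⨁ fun _ : Fin n => Coh.structureModule V) ⟶ Coh.structureModule V :=
  biproduct.desc (fun i => f i • 𝟙 (Coh.structureModule V))

/-- `O/(f₁, …, fₙ)`. -/
noncomputable abbrev quo : V.Modules := cokernel (ofn f)

theorem isCoh_quo : Coh.IsCoh (quo f) :=
  PerfA.CohSerre.isCoh_cokernel _ (CohqA.HBiprod.isQCoh_biproduct _ fun _ => Ega2.QCohLocal.isQCoh_structureModule V)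
    (Fdesc.StructMod.isCoh_structureModule V)

theorem smul_quo (i : Fin n) : f i • 𝟙 (quo f) = 0 := by
  rw [← cancel_epi (cokernel.π (ofn f)), Linear.comp_smul, Category.comp_id, comp_zero]
  have h : f i • cokernel.π (ofn f) = biproduct.ι (fun _ : Fin n => Coh.structureModule V) i ≫ ofn f ≫ cokernel.π (ofn f) := by
    rw [← Category.assoc, biproduct.ι_desc, Linear.smul_comp, Category.id_comp]
  rw [h, cokernel.condition, comp_zero]

/-- The support of `O/(f₁, …, fₙ)`. -/
theorem support_quo {v : V} (hv : v ∈ CohB1.support (quo f)) (i : Fin n) : v ∉ V.basicOpen (f i) := by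
  intro hvi
  refine (CohqB.DevSupport.not_mem_support_iff _ _).2 (subsingleton_of_forall_eq 0 fun t => ?_) hv
  obtain ⟨U, hvU, t, rfl⟩ := TopCat.Presheaf.exists_germ_eq _ t
  have h0 : ∀ s : Γ(quo f, U ⊓ V.basicOpen (f i)), s = 0 := by
    intro s
    have h1 := smul_app (f i) (𝟙 (quo f)) (U ⊓ V.basicOpen (f i)) s
    rw [smul_quo f i] at h1
    have h2 : IsUnit (V.presheaf.map (homOfLE (V.basicOpen_le (f i))).op (f i)) :=
      RingedSpace.isUnit_res_basicOpen _ _
    have h3 := h2.map (V.presheaf.map (homOfLE (inf_le_right : U ⊓ V.basicOpen (f i) ≤ V.basicOpen (f i))).op).hom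
    have h4 : LoccohB.GlueHom.resO (le_top : U ⊓ V.basicOpen (f i) ≤ ⊤) (f i) =
        V.presheaf.map (homOfLE (inf_le_right : U ⊓ V.basicOpen (f i) ≤ V.basicOpen (f i))).op
          (V.presheaf.map (homOfLE (V.basicOpen_le (f i))).op (f i)) := by
      rw [← CommRingCat.comp_apply, ← Functor.map_comp]
      rfl
    rw [h4] at h1
    exact (h3.smul_eq_zero).1 h1.symm
  have h5 := Fdesc.QCohStalk.germ_map (quo f) (inf_le_left : U ⊓ V.basicOpen (f i) ≤ U) v ⟨hvU, hvi⟩ t
  rw [h0 ((quo f).presheaf.map _ t)] at h5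
  rw [← h5]
  exact map_zero _

/-- The quotients of the ring by powers of maximal ideals. -/
theorem exists_gens [IsAffine V] [IsLocallyNoetherian V] (m : Ideal Γ(V, ⊤)) [hm : m.IsMaximal] (N : ℕ) :
    ∃ x : V, IsClosed ({x} : Set V) ∧ ∃ (r : ℕ) (f : Fin r → Γ(V, ⊤)), Ideal.span (Set.range f) = m ^ N ∧
      CohB1.support (quo f) ⊆ {x} := by
  have hA := isAffineOpen_top V
  have : IsNoetherianRing Γ(V, ⊤) := IsLocallyNoetherian.component_noetherian ⟨⊤, hA⟩
  let x : V := hA.fromSpec ⟨m, hm.isPrime⟩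
  have hx : ∀ v : V, m ≤ (hA.primeIdealOf ⟨v, trivial⟩).asIdeal → v = x := by
    intro v hv
    have h1 : m = (hA.primeIdealOf ⟨v, trivial⟩).asIdeal :=
      hm.eq_of_le (hA.primeIdealOf ⟨v, trivial⟩).isPrime.ne_top hv
    have h2 : hA.primeIdealOf ⟨v, trivial⟩ = ⟨m, hm.isPrime⟩ := PrimeSpectrum.ext h1.symm
    have h3 := hA.fromSpec_primeIdealOf ⟨v, trivial⟩
    rw [h2] at h3
    exact h3.symm
  have hcl : IsClosed ({x} : Set V) := by
    have h1 : ({x} : Set V) = ⋂ g ∈ m, (V.basicOpen g : Set V)ᶜ := by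
      ext v
      simp only [Set.mem_singleton_iff, Set.mem_iInter]
      constructor
      · rintro rfl g hg hv
        have h2 : hA.primeIdealOf ⟨x, trivial⟩ = ⟨m, hm.isPrime⟩ := by
          apply hA.fromSpec.isOpenEmbedding.injective
          exact hA.fromSpec_primeIdealOf ⟨x, trivial⟩
        have h3 := (Fdesc.QCohStalk.mem_basicOpen_iff hA x trivial g).1 hv
        rw [h2] at h3
        exact h3 hg
      · intro h
        refine hx v fun g hg => ?_
        by_contra h3
        exact h g hg ((Fdesc.QCohStalk.mem_basicOpen_iff hA v trivial g).2 h3)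
    rw [h1]
    exact isClosed_biInter fun g _ => (V.basicOpen g).isOpen.isClosed_compl
  obtain ⟨r, f, hf⟩ := Submodule.fg_iff_exists_fin_generating_family.1 (IsNoetherian.noetherian (m ^ N))
  refine ⟨x, hcl, r, f, hf, fun v hv => hx v ?_⟩
  have h1 : m ^ N ≤ (hA.primeIdealOf ⟨v, trivial⟩).asIdeal := by
    have h2 : m ^ N = Ideal.span (Set.range f) := hf.symm
    rw [h2, Ideal.span_le]
    rintro _ ⟨i, rfl⟩
    by_contra h3
    exact support_quo f hv i ((Fdesc.QCohStalk.mem_basicOpen_iff hA v trivial (f i)).2 h3)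
  exact (hA.primeIdealOf ⟨v, trivial⟩).isPrime.le_of_pow_le h1

/-- The direct image of a quotient supported at a closed point. -/
theorem isPerfect_rpush {X : Scheme.{u}} [IsNoetherian X] [JacobsonSpace X] [X.IsSeparated]
    (hreg : Models.IsRegularScheme X) (U : X.Opens) (hU : IsAffineOpen U) [DCoh.HasRpush U.ι] (x : U)
    (hx : IsClosed ({x} : Set U)) {C : (U : Scheme.{u}).Modules} (hC : Coh.IsCoh C) (hs : CohB1.support C ⊆ {x}) :
    Sky.IsZD ((Coh.push U.ι).obj C) ∧ Nonempty ((DCoh.Rpush U.ι).obj (DCoh.inD U C) ≅ DCoh.inD X ((Coh.push U.ι).obj C)) ∧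
    DCoh.IsPerfect ((DCoh.Rpush U.ι).obj (DCoh.inD U C)) := by
  have hx' : IsClosed ({U.ι x} : Set X) := by
    have h1 : x ∈ closedPoints U := hx
    rw [← U.ι.isOpenEmbedding.preimage_closedPoints] at h1
    exact h1
  have hcoh : Coh.IsCoh ((Coh.push U.ι).obj C) :=
    S0048.result X U {U.ι x} hx' (Set.singleton_subset_iff.2 x.2) C hC (fun v hv => by
      rw [hs hv]
      rfl)
  have haff : IsAffineHom U.ι := by
    have := hU
    have h0 : IsAffine (U : Scheme.{u}) := hU
    have h1 : IsAffineHom (U.ι ≫ terminal.from X) := inferInstance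
    exact IsAffineHom.of_comp U.ι (terminal.from X)
  obtain ⟨e⟩ := nonempty_rpush U.ι C hC.1
  have hsup : CohB1.support ((Coh.push U.ι).obj C) ⊆ {U.ι x} := by
    intro y hy
    by_contra hyx
    refine (CohqB.DevSupport.not_mem_support_iff _ _).2 (subsingleton_of_forall_eq 0 fun t => ?_) hy
    obtain ⟨O', hyO, t, rfl⟩ := TopCat.Presheaf.exists_germ_eq _ t
    let O : X.Opens := O' ⊓ ⟨{U.ι x}ᶜ, hx'.isOpen_compl⟩
    have h0 : Subsingleton Γ(C, U.ι ⁻¹ᵁ O) := CohqB.LocalQC.subsingleton_sections _ fun v hv =>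
      (CohqB.DevSupport.not_mem_support_iff _ _).1 fun hc => by
        rw [hs hc] at hv
        exact hv.2 rfl
    have h5 := Fdesc.QCohStalk.germ_map ((Coh.push U.ι).obj C) (inf_le_left : O ≤ O') y ⟨hyO, hyx⟩ t
    rw [← h5]
    have h6 : ((Coh.push U.ι).obj C).presheaf.map (homOfLE (inf_le_left : O ≤ O')).op t = 0 := h0.elim _ _
    rw [h6]
    exact map_zero _
  refine ⟨⟨hcoh, (Set.finite_singleton _).subset hsup, fun y hy => by rw [hsup hy]; exact hx'⟩, ⟨e⟩, ?_⟩
  exact PerfA.PerfLocal.isPerfect_of_iso e.symm (Sky.isPerfect_inD hreg hcoh)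

end K352.FMSky
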