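import Groth.Agent.DEquiv.K350.HeartData
import Mathlib.CategoryTheory.Linear.LinearFunctor
import Mathlib.LinearAlgebra.FiniteDimensional.Lemmas

/-!
# Full faithfulness on a class of objects of the heart

`C` is a triangulated category with heart data `ι : A ⥤ C`.

* `eff_mono`: for `ξ : ι M ⟶ (ι N)⟦a⟧`, `a ≥ 1`, there is a monomorphism `j : N ⟶ N'` with `ξ ≫ (ι j)⟦a⟧' = 0`;
* `bijective`: `F : C ⥤ C` exact and linear over a field, `T` a class of objects of `A` closed under subobjects and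
  quotients, such that `ι M ≅ F (ι M)` for `M` in `T`, the `Hom(ι M, (ι N)⟦i⟧)` are finite-dimensional and every
  `N ⟶ N'` with `N` in `T` stays a monomorphism after passing to a suitable quotient of `N'` in `T`.  Then `F` is
  bijective on `Hom(ι M, (ι N)⟦i⟧)`, `M`, `N` in `T`.
-/

set_option autoImplicit false

universe v v' v'' u u' u''

namespace K352.HeartFF

open CategoryTheory CategoryTheory.Limits CategoryTheory.Pretriangulated
  CategoryTheory.Triangulated K350.HD K350.Tri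

variable {A : Type u} [Category.{v} A] [Abelian A]
  {C : Type u'} [Category.{v'} C] [Preadditive C] [HasZeroObject C] [HasShift C ℤ]
  [∀ n : ℤ, (shiftFunctor C n).Additive] [Pretriangulated C]
  {t : TStructure C} {ι : A ⥤ C}

omit [HasZeroObject C] [Pretriangulated C] [∀ n : ℤ, (shiftFunctor C n).Additive] in
lemma comp_shift_zero_iff {W P Q : C} (f : P ⟶ Q) (a b : ℤ) (hab : a + 1 = b) (ξ : W ⟶ P⟦b⟧) :
    (ξ ≫ (shiftFunctorAdd' C a 1 b hab).hom.app P) ≫ f⟦a⟧'⟦(1:ℤ)⟧' = 0 ↔ ξ ≫ f⟦b⟧' = 0 := by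
  have hnat : f⟦b⟧' ≫ (shiftFunctorAdd' C a 1 b hab).hom.app Q =
    (shiftFunctorAdd' C a 1 b hab).hom.app P ≫ f⟦a⟧'⟦(1:ℤ)⟧' :=
      (shiftFunctorAdd' C a 1 b hab).hom.naturality f
  rw [Category.assoc, ← hnat, ← Category.assoc]
  constructor
  · intro h
    rw [← cancel_mono ((shiftFunctorAdd' C a 1 b hab).hom.app Q), h, zero_comp]
  · intro h
    rw [h, zero_comp]

/-- A monomorphism `j : N ⟶ N'` killing a class of positive degree. -/
theorem eff_mono (h : HeartData t ι) (n : ℕ) : ∀ (M N : A) (a : ℤ) (_ : (n : ℤ) + 1 = a) (ξ : ι.obj M ⟶ (ι.obj N)⟦a⟧),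
    ∃ (N' : A) (j : N ⟶ N'), Mono j ∧ ξ ≫ (ι.map j)⟦a⟧' = 0 := by
  have _ := h.additive
  induction n with
  | zero =>
    intro M N a ha ξ
    obtain rfl : a = 1 := by simpa using ha.symm
    obtain ⟨Y, f, g, hT⟩ := distinguished_cocone_triangle₂ ξ
    have h1 : t.IsLE Y 0 := t.isLE₂ _ hT 0 (h.le0 N) (h.le0 M)
    have h2 : t.IsGE Y 0 := t.isGE₂ _ hT 0 (h.ge0 N) (h.ge0 M)
    obtain ⟨N', ⟨e⟩⟩ := h.exists_iso0 Y h1 h2
    have _ := h.full
    obtain ⟨j, hj⟩ := ι.map_surjective (f ≫ e.hom)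
    refine ⟨N', j, ?_, ?_⟩
    · refine Preadditive.mono_of_cancel_zero _ fun {K} g' hg' => ?_
      have hf : ι.map g' ≫ f = 0 := by
        rw [← cancel_mono e.hom, Category.assoc, ← hj, ← Functor.map_comp, hg', Functor.map_zero, zero_comp]
      have hf1 : (ι.map g')⟦(1:ℤ)⟧' ≫ f⟦(1:ℤ)⟧' = 0 := by
        rw [← Functor.map_comp, hf, Functor.map_zero]
      obtain ⟨v, hv⟩ := coyon1 hT ((ι.map g')⟦(1:ℤ)⟧') hf1
      have h3 : t.IsLE ((ι.obj K)⟦(1:ℤ)⟧) (-1) := h.le K 1 (-1) (by omega)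
      have h4 : v = 0 := t.zero_of_isLE_of_isGE v (-1) 0 (by omega) h3 (h.ge0 M)
      have h5 : (ι.map g')⟦(1:ℤ)⟧' = 0 := by
        rw [hv, h4, zero_comp]
      have h6 : ι.map g' = 0 := (shiftFunctor C (1:ℤ)).map_injective (h5.trans (Functor.map_zero _ _ _).symm)
      have _ := h.faithful
      exact ι.map_injective (h6.trans (ι.map_zero _ _).symm)
    · rw [hj, Functor.map_comp, ← Category.assoc, comp31 hT, zero_comp]
  | succ n ih =>
    intro M N a ha ξ
    have hZ : t.IsLE ((ι.obj N)⟦a⟧) (-1) := by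
      have := h.le N a (-a) (by omega)
      exact t.isLE_of_le _ (-a) (-1) (by push_cast at ha; omega)
    obtain ⟨E, p, hp, hpξ⟩ := h.eff M 0 0 (by omega) _ ((shiftFunctorZero C ℤ).hom.app _ ≫ ξ) hZ
    have hpξ' : ι.map p ≫ ξ = 0 := by
      have h1 := (shiftFunctorZero C ℤ).hom.naturality (ι.map p)
      rw [← Category.assoc, h1, Category.assoc] at hpξ
      rw [← cancel_epi ((shiftFunctorZero C ℤ).hom.app (ι.obj E)), comp_zero]
      exact hpξ
    have hS : (ShortComplex.mk (kernel.ι p) p (kernel.condition p)).ShortExact :=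
      { exact := ShortComplex.exact_of_f_is_kernel _ (kernelIsKernel p)
        mono_f := inferInstanceAs (Mono (kernel.ι p))
        epi_g := hp }
    obtain ⟨δ, hT⟩ := h.ses0 _ _ _ hS
    obtain ⟨η, hη⟩ := yon3 hT ξ hpξ'
    have hab : a - 1 + 1 = a := by omega
    obtain ⟨η', hη'⟩ := (shiftFunctor C (1:ℤ)).map_surjective (η ≫ (shiftFunctorAdd' C (a - 1) 1 a hab).hom.app _)
    obtain ⟨N', j, hj, hj'⟩ := ih (kernel p) N (a - 1) (by push_cast at ha; omega) η'
    refine ⟨N', j, hj, ?_⟩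
    have h1 : η ≫ (ι.map j)⟦a⟧' = 0 := by
      rw [← comp_shift_zero_iff (ι.map j) (a - 1) a hab, ← hη', ← Functor.map_comp, hj', Functor.map_zero]
    rw [hη, Category.assoc, h1, comp_zero]

section

variable (k : Type*) [Field k] [Linear k C]

omit [HasZeroObject C] [HasShift C ℤ] [∀ n : ℤ, (shiftFunctor C n).Additive] [Pretriangulated C] in
/-- Injectivity implies surjectivity. -/
theorem surj_of_inj (F : C ⥤ C) [F.Additive] [F.Linear k] {P Q : C} (eP : P ≅ F.obj P) (eQ : Q ≅ F.obj Q)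
    (hfin : Module.Finite k (P ⟶ Q)) (hinj : ∀ f : P ⟶ Q, F.map f = 0 → f = 0) :
    Function.Surjective (fun f : P ⟶ Q => F.map f) := by
  let e : (P ⟶ Q) ≃ₗ[k] (F.obj P ⟶ F.obj Q) := Linear.homCongr k eP eQ
  have h1 : Module.Finite k (F.obj P ⟶ F.obj Q) := Module.Finite.equiv e
  have h2 : Function.Injective (F.mapLinearMap k : (P ⟶ Q) →ₗ[k] (F.obj P ⟶ F.obj Q)) :=
    (injective_iff_map_eq_zero _).2 hinj
  exact (LinearMap.injective_iff_surjective_of_finrank_eq_finrank (LinearEquiv.finrank_eq e)).1 h2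

variable (h : HeartData t ι) (F : C ⥤ C) [F.Additive] [F.Linear k] [F.CommShift ℤ] [F.IsTriangulated]
  (T : A → Prop) (hsub : ∀ {M N : A} (f : M ⟶ N) (_ : Mono f), T N → T M)
  (hquot : ∀ {M N : A} (f : M ⟶ N) (_ : Epi f), T M → T N)
  (hext : ∀ {N N' : A} (j : N ⟶ N') (_ : Mono j), T N → ∃ (N'' : A) (q : N' ⟶ N''), T N'' ∧ Mono (j ≫ q))
  (hF : ∀ M, T M → Nonempty (ι.obj M ≅ F.obj (ι.obj M)))
  (hfin : ∀ M N, T M → T N → ∀ i : ℤ, Module.Finite k (ι.obj M ⟶ (ι.obj N)⟦i⟧))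

omit [HasZeroObject C] [∀ n : ℤ, (shiftFunctor C n).Additive] [Pretriangulated C] [Preadditive C]
  [F.Additive] [F.IsTriangulated] in
/-- `Q⟦i⟧ ≅ F (Q⟦i⟧)` -/
noncomputable def isoFs (F : C ⥤ C) [F.CommShift ℤ] {Q : C} (e : Q ≅ F.obj Q) (i : ℤ) : Q⟦i⟧ ≅ F.obj (Q⟦i⟧) :=
  (shiftFunctor C i).mapIso e ≪≫ ((F.commShiftIso i).app Q).symm

include h hsub hquot hF in
omit k [F.Linear k] [Field k] [Linear k C] in
theorem inj_zero {M N : A} (hM : T M) (hN : T N) (f : M ⟶ N) (hf : F.map (ι.map f) = 0) : f = 0 := by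
  have _ := h.additive
  -- `f = p ≫ j`, `K` the kernel of `p`, `Q` the cokernel of `j`
  let I := Abelian.image f
  let p : M ⟶ I := Abelian.factorThruImage f
  let j : I ⟶ N := Abelian.image.ι f
  have hpj : p ≫ j = f := Abelian.image.fac f
  have hI : T I := hsub j inferInstance hN
  have hK : T (kernel p) := hsub (kernel.ι p) inferInstance hM
  have hQ : T (cokernel j) := hquot (cokernel.π j) inferInstance hN
  have hS1 : (ShortComplex.mk (kernel.ι p) p (kernel.condition p)).ShortExact :=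
    { exact := ShortComplex.exact_of_f_is_kernel _ (kernelIsKernel p)
      mono_f := inferInstanceAs (Mono (kernel.ι p))
      epi_g := inferInstanceAs (Epi p) }
  have hS2 : (ShortComplex.mk j (cokernel.π j) (cokernel.condition j)).ShortExact :=
    { exact := ShortComplex.exact_of_g_is_cokernel _ (cokernelIsCokernel j)
      mono_f := inferInstanceAs (Mono j)
      epi_g := inferInstanceAs (Epi (cokernel.π j)) }
  obtain ⟨δ1, hT1⟩ := h.ses0 _ _ _ hS1
  obtain ⟨δ2, hT2⟩ := h.ses0 _ _ _ hS2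
  -- negativity
  have hneg : ∀ (M N : A), T M → T N → ∀ φ : (F.obj (ι.obj M))⟦(1:ℤ)⟧ ⟶ F.obj (ι.obj N), φ = 0 := by
    intro M N hM hN φ
    obtain ⟨e⟩ := hF M hM
    obtain ⟨e'⟩ := hF N hN
    have h3 : t.IsLE ((ι.obj M)⟦(1:ℤ)⟧) (-1) := h.le M 1 (-1) (by omega)
    have h4 : e.hom⟦(1:ℤ)⟧' ≫ φ ≫ e'.inv = 0 := t.zero_of_isLE_of_isGE _ (-1) 0 (by omega) h3 (h.ge0 N)
    rw [← cancel_epi (e.hom⟦(1:ℤ)⟧'), ← cancel_mono e'.inv, Category.assoc, h4, comp_zero, zero_comp]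
  have h5 : F.map (ι.map p) ≫ F.map (ι.map j) = 0 := by
    rw [← Functor.map_comp, ← Functor.map_comp, hpj, hf]
  have h6 : F.map (ι.map j) = 0 := by
    obtain ⟨s, hs⟩ := yon3 (map_dist F hT1) (F.map (ι.map j)) h5
    rw [hs, hneg _ _ hK hN s, comp_zero]
  have h7 : 𝟙 ((F.obj (ι.obj I))⟦(1:ℤ)⟧) = 0 := by
    obtain ⟨s, hs⟩ := coyon1 (map_dist F hT2) (𝟙 ((F.obj (ι.obj I))⟦(1:ℤ)⟧)) (by
      rw [Category.id_comp, h6, Functor.map_zero])
    rw [hs, hneg _ _ hI hQ s, zero_comp]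
  have h8 : 𝟙 (F.obj (ι.obj I)) = 0 := by
    apply (shiftFunctor C (1:ℤ)).map_injective
    rw [CategoryTheory.Functor.map_id, h7, Functor.map_zero]
  obtain ⟨e⟩ := hF I hI
  have h9 : 𝟙 (ι.obj I) = 0 := by
    rw [← e.hom_inv_id, ← Category.id_comp e.inv, h8, zero_comp, comp_zero]
  have h10 : 𝟙 I = 0 := by
    have _ := h.faithful
    apply ι.map_injective
    rw [CategoryTheory.Functor.map_id, h9, Functor.map_zero]
  rw [← hpj, ← Category.comp_id p, h10, comp_zero, zero_comp]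

include h hsub hquot hF hext hfin in
theorem inj_nat (n : ℕ) : ∀ (M N : A), T M → T N → ∀ f : ι.obj M ⟶ (ι.obj N)⟦(n:ℤ)⟧, F.map f = 0 → f = 0 := by
  have _ := h.additive
  induction n with
  | zero =>
    intro M N hM hN f hf
    let c : (ι.obj N)⟦((0:ℕ):ℤ)⟧ ≅ ι.obj N := (shiftFunctorZero' C ((0:ℕ):ℤ) rfl).app _
    have _ := h.full
    obtain ⟨g, hg⟩ := ι.map_surjective (f ≫ c.hom)
    have hg0 : g = 0 := inj_zero h F T hsub hquot hF hM hN g (by
      rw [hg, Functor.map_comp, hf, zero_comp])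
    rw [← cancel_mono c.hom, ← hg, hg0, Functor.map_zero, zero_comp]
  | succ n ih =>
    intro M N hM hN ξ hξ
    obtain ⟨N1, j1, hj1, hj1'⟩ := eff_mono h n M N _ rfl ξ
    obtain ⟨N', q, hN', hj⟩ := hext j1 hj1 hN
    let j : N ⟶ N' := j1 ≫ q
    have hξj : ξ ≫ (ι.map j)⟦((n:ℤ) + 1)⟧' = 0 := by
      rw [ι.map_comp, Functor.map_comp, ← Category.assoc, hj1', zero_comp]
    have hQ : T (cokernel j) := hquot (cokernel.π j) inferInstance hN'
    have hS : (ShortComplex.mk j (cokernel.π j) (cokernel.condition j)).ShortExact :=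
      { exact := ShortComplex.exact_of_g_is_cokernel _ (cokernelIsCokernel j)
        mono_f := inferInstanceAs (Mono j)
        epi_g := inferInstanceAs (Epi (cokernel.π j)) }
    obtain ⟨δ, hT⟩ := h.ses _ _ _ hS (n:ℤ)
    have h1 := (comp_shift_zero_iff (ι.map j) (n:ℤ) _ rfl ξ).2 hξj
    obtain ⟨η, hη⟩ := coyon1 hT _ h1
    have h2 : F.map η ≫ F.map δ = 0 := by
      rw [← Functor.map_comp, ← hη, Functor.map_comp, hξ, zero_comp]
    obtain ⟨θ', hθ'⟩ := coyon3 (map_dist F hT) (F.map η) (by rw [← Category.assoc, h2, zero_comp])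
    obtain ⟨θ, rfl⟩ := surj_of_inj k F (hF M hM).some (isoFs F (hF N' hN').some (n:ℤ))
      (hfin M N' hM hN' n) (ih M N' hM hN') θ'
    have h3 : η - θ ≫ (ι.map (cokernel.π j))⟦(n:ℤ)⟧' = 0 := ih M _ hM hQ _ (by
      rw [Functor.map_sub, hθ', Functor.map_comp, sub_self])
    have h4 : ξ ≫ (shiftFunctorAdd' C (n:ℤ) 1 _ rfl).hom.app (ι.obj N) = 0 := by
      rw [hη, sub_eq_zero.1 h3, Category.assoc, comp23 hT, comp_zero]
    rw [← cancel_mono ((shiftFunctorAdd' C (n:ℤ) 1 _ rfl).hom.app (ι.obj N)), zero_comp]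
    exact h4

include h hsub hquot hF hext hfin in
theorem bijective (M N : A) (hM : T M) (hN : T N) (i : ℤ) :
    Function.Bijective (fun f : ι.obj M ⟶ (ι.obj N)⟦i⟧ => F.map f) := by
  have hinj : ∀ f : ι.obj M ⟶ (ι.obj N)⟦i⟧, F.map f = 0 → f = 0 := by
    intro f hf
    by_cases hi : 0 ≤ i
    · obtain ⟨n, rfl⟩ := Int.eq_ofNat_of_zero_le hi
      exact inj_nat k h F T hsub hquot hext hF hfin n M N hM hN f hf
    · have h3 := h.ge N i (-i) (by omega)
      exact t.zero_of_isLE_of_isGE f 0 (-i) (by omega) (h.le0 M) h3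
  refine ⟨fun f g hfg => ?_, ?_⟩
  · rw [← sub_eq_zero]
    refine hinj _ ?_
    rw [Functor.map_sub]
    exact sub_eq_zero.2 hfg
  · exact surj_of_inj k F (hF M hM).some (isoFs F (hF N hN).some i) (hfin M N hM hN i) hinj

end

end K352.HeartFF
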