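import Groth.Agent.DEquiv.K352.Lin
import Groth.Agent.PerfB.FlatAdj
import Groth.Agent.PerfB.UnitStr
import Groth.Agent.PerfB.AffHD
import Groth.Agent.CohqA.FinSec
import Groth.Agent.Sga67.CohBasic

/-!
# Finiteness of `Hom(O_X, K⟦i⟧)` over the base ring

For `X` flat over `Spec A` (structure morphism `π`) and `K` in `D(O_X)` with `Rπ_* K` quasi-coherent, the
`A`-module `Hom(O_X, K⟦i⟧)` is finite iff `H^i(Rπ_* K)` is coherent, and it is zero iff `H^i(Rπ_* K) = 0`.
-/

set_option autoImplicit false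

universe u

open CategoryTheory CategoryTheory.Limits AlgebraicGeometry Opposite TopologicalSpace Pretriangulated
attribute [local instance] HasDerivedCategory.standard

namespace K352.HomFin

open Groth.Agent.PerfA Groth.Agent.PerfA.ExtZero Groth.Agent.PerfA.Hyp0 Groth.Agent.PerfA.Hyp1
open Groth.Agent.PerfB Groth.Agent.PerfB.FlatPull Groth.Agent.PerfB.FlatAdj Groth.Agent.PerfB.UnitStr
open Groth.Agent.Dcoh.DerSch

attribute [local instance] rpushCommShift rpush_isTriangulated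

section Affine

variable {A : Type u} [CommRing A]

theorem bijective_toGlobal : Function.Bijective (Coh.toGlobal (𝟙 (Spec (CommRingCat.of A)))) := by
  have h : (Coh.toGlobal (𝟙 (Spec (CommRingCat.of A))) : A → Coh.Γtop (Spec (CommRingCat.of A))) =
      ((Scheme.ΓSpecIso (CommRingCat.of A)).inv.hom : A → _) := by
    funext a
    change ((𝟙 (Spec (CommRingCat.of A)) : _ ⟶ _).appTop).hom _ = _
    simp
  rw [h]
  exact ConcreteCategory.bijective_of_isIso (Scheme.ΓSpecIso (CommRingCat.of A)).inv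

/-- The canonical ring hom `A → Γ(Spec A, O)`. -/
noncomputable def sig : A →+* Γ(Spec (CommRingCat.of A), ⊤) := Coh.toGlobal (𝟙 (Spec (CommRingCat.of A)))

/-- `Hom(O_S, M) → Γ(S, H^0(M))`. -/
noncomputable def tau (M : DCoh.D (Spec (CommRingCat.of A))) (g : DCoh.inD (Spec (CommRingCat.of A)) (Coh.structureModule (Spec (CommRingCat.of A))) ⟶ M) :
    Γ(DCoh.HD M 0, ⊤) :=
  toHD (m := 0) ((DerivedCategory.singleFunctor _ 0).map (UnitOU.unitIsoOU (Spec (CommRingCat.of A))).inv ≫ g)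

theorem tau_bijective {M : DCoh.D (Spec (CommRingCat.of A))} (hM : DCoh.IsQCohD M) : Function.Bijective (tau M) :=
  (AffHD.toHD_bijective hM (isAffineOpen_top (Spec (CommRingCat.of A))) 0).comp
    (Iso.homFromEquiv ((DerivedCategory.singleFunctor _ 0).mapIso (UnitOU.unitIsoOU (Spec (CommRingCat.of A))))).bijective

theorem tau_add (M : DCoh.D (Spec (CommRingCat.of A))) (g h : DCoh.inD (Spec (CommRingCat.of A)) (Coh.structureModule (Spec (CommRingCat.of A))) ⟶ M) :
    tau M (g + h) = tau M g + tau M h := by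
  rw [tau, Preadditive.comp_add, toHD_add]
  rfl

theorem tau_smul (M : DCoh.D (Spec (CommRingCat.of A))) (a : A) (g : DCoh.inD (Spec (CommRingCat.of A)) (Coh.structureModule (Spec (CommRingCat.of A))) ⟶ M) :
    tau M (a • g) = sig a • tau M g := by
  have h1 : a • g = g ≫ (a • 𝟙 M) := by rw [Linear.comp_smul, Category.comp_id]
  have := Lin.linear_homologyFunctor A (Spec (CommRingCat.of A)).Modules 0
  rw [tau, h1, ← Category.assoc, toHD_comp, CategoryTheory.Functor.map_smul, CategoryTheory.Functor.map_id, KLin.smul_app_apply]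
  change _ • (𝟙 (DCoh.HD M 0) : _ ⟶ _).app ⊤ _ = _
  rw [Scheme.Modules.Hom.id_app]
  change (Spec (CommRingCat.of A)).presheaf.map (𝟙 _) _ • _ = _
  rw [(Spec (CommRingCat.of A)).presheaf.map_id]
  rfl

/-- `tau` as a semilinear map. -/
noncomputable def tauL (M : DCoh.D (Spec (CommRingCat.of A))) : (DCoh.inD (Spec (CommRingCat.of A)) (Coh.structureModule (Spec (CommRingCat.of A))) ⟶ M) →ₛₗ[sig (A := A)]
    Γ(DCoh.HD M 0, ⊤) where
  toFun := tau M
  map_add' := tau_add M
  map_smul' := tau_smul M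

theorem finite_iff_module (M : DCoh.D (Spec (CommRingCat.of A))) (hM : DCoh.IsQCohD M) :
    Module.Finite A (DCoh.inD (Spec (CommRingCat.of A)) (Coh.structureModule (Spec (CommRingCat.of A))) ⟶ M) ↔ Module.Finite Γ((Spec (CommRingCat.of A)), ⊤) Γ(DCoh.HD M 0, ⊤) := by
  have hb := tau_bijective hM
  have h1 := bijective_toGlobal (A := A)
  have : RingHomSurjective (sig (A := A)) := ⟨h1.2⟩
  constructor
  · intro h
    exact Module.Finite.of_surjective (tauL M) hb.2
  · intro h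
    let σ : A ≃+* Γ((Spec (CommRingCat.of A)), ⊤) := RingEquiv.ofBijective (sig (A := A)) h1
    let e : (DCoh.inD (Spec (CommRingCat.of A)) (Coh.structureModule (Spec (CommRingCat.of A))) ⟶ M) ≃+ Γ(DCoh.HD M 0, ⊤) :=
      AddEquiv.ofBijective (AddMonoidHom.mk' (tau M) (tau_add M)) hb
    have : RingHomSurjective (σ.symm : Γ((Spec (CommRingCat.of A)), ⊤) →+* A) := ⟨σ.symm.surjective⟩
    let t : Γ(DCoh.HD M 0, ⊤) →ₛₗ[(σ.symm : Γ((Spec (CommRingCat.of A)), ⊤) →+* A)] (DCoh.inD (Spec (CommRingCat.of A)) (Coh.structureModule (Spec (CommRingCat.of A))) ⟶ M) :=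
      { toFun := e.symm
        map_add' := map_add e.symm
        map_smul' := fun c m => by
          apply e.injective
          rw [e.apply_symm_apply]
          change c • m = tau M _
          rw [tau_smul]
          change _ = σ (σ.symm c) • e (e.symm m)
          rw [e.apply_symm_apply, RingEquiv.apply_symm_apply] }
    exact Module.Finite.of_surjective t e.symm.surjective

theorem isCoh_iff_top {X : Scheme.{u}} [IsAffine X] {N : X.Modules} (hN : Coh.IsQCoh N) :
    Coh.IsCoh N ↔ Module.Finite Γ(X, ⊤) Γ(N, ⊤) := by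
  constructor
  · intro h
    exact Groth.Agent.Sga67.CohBasic.finite_sections h ⟨⊤, isAffineOpen_top X⟩
  · intro h
    exact ⟨hN, Groth.Agent.CohqA.FinSec.isFT_of_finite hN fun x => ⟨⊤, isAffineOpen_top X, trivial, h⟩⟩

theorem finite_iff_isCoh (M : DCoh.D (Spec (CommRingCat.of A))) (hM : DCoh.IsQCohD M) :
    Module.Finite A (DCoh.inD (Spec (CommRingCat.of A)) (Coh.structureModule (Spec (CommRingCat.of A))) ⟶ M) ↔ Coh.IsCoh (DCoh.HD M 0) :=
  (finite_iff_module M hM).trans (isCoh_iff_top (hM 0)).symm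

theorem nontrivial_iff (M : DCoh.D (Spec (CommRingCat.of A))) (hM : DCoh.IsQCohD M) :
    Nontrivial (DCoh.inD (Spec (CommRingCat.of A)) (Coh.structureModule (Spec (CommRingCat.of A))) ⟶ M) ↔ ¬ IsZero (DCoh.HD M 0) := by
  have hb := tau_bijective hM
  rw [← not_subsingleton_iff_nontrivial, not_iff_not]
  constructor
  · intro h
    refine isZero_of_top (hM 0) fun s => ?_
    obtain ⟨g, rfl⟩ := hb.2 s
    rw [Subsingleton.elim g 0, tau, comp_zero, toHD_zero]
  · intro h
    refine ⟨fun a b => hb.1 ?_⟩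
    have h2 : Subsingleton Γ(DCoh.HD M 0, ⊤) := by
      have h3 : ∀ s : Γ(DCoh.HD M 0, ⊤), s = 0 := fun s => by
        have h4 : (𝟙 (DCoh.HD M 0) : DCoh.HD M 0 ⟶ _).app ⊤ s = s := rfl
        rw [← h4, h.eq_of_src (𝟙 _) 0]
        rfl
      exact ⟨fun a b => (h3 a).trans (h3 b).symm⟩
    exact Subsingleton.elim _ _

end Affine

section Flat

variable {A : Type u} [CommRing A] {X : Scheme.{u}} [X.Over (Spec (CommRingCat.of A))]

variable [Flat (X ↘ Spec (CommRingCat.of A))] [DCoh.HasRpush (X ↘ Spec (CommRingCat.of A))]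

/-- `Hom(O_X, M) → Hom(O_S, Rπ_* M)`. -/
noncomputable def adjE (M : DCoh.D X) : (DCoh.inD X (Coh.structureModule X) ⟶ M) ≃
    (DCoh.inD (Spec (CommRingCat.of A)) (Coh.structureModule (Spec (CommRingCat.of A))) ⟶ (DCoh.Rpush (X ↘ Spec (CommRingCat.of A))).obj M) :=
  (Iso.homFromEquiv (pullO (X ↘ Spec (CommRingCat.of A)))).symm.trans ((pullAdj (X ↘ Spec (CommRingCat.of A))).homEquiv _ _)

theorem adjE_apply (M : DCoh.D X) (g : DCoh.inD X (Coh.structureModule X) ⟶ M) :
    adjE (A := A) M g = (pullAdj (X ↘ Spec (CommRingCat.of A))).homEquiv _ _ ((pullO (X ↘ Spec (CommRingCat.of A))).hom ≫ g) := rfl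

theorem adjE_add (M : DCoh.D X) (g h : DCoh.inD X (Coh.structureModule X) ⟶ M) :
    adjE (A := A) M (g + h) = adjE (A := A) M g + adjE (A := A) M h := by
  rw [adjE_apply, adjE_apply, adjE_apply, Preadditive.comp_add, Adjunction.homEquiv_unit,
    Adjunction.homEquiv_unit, Adjunction.homEquiv_unit, Functor.map_add, Preadditive.comp_add]

theorem pullO_smul (a : A) :
    (pullbackD (X ↘ Spec (CommRingCat.of A))).map (a • 𝟙 (DCoh.inD (Spec (CommRingCat.of A)) (Coh.structureModule (Spec (CommRingCat.of A))))) ≫ (pullO (X ↘ Spec (CommRingCat.of A))).hom =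
      (pullO (X ↘ Spec (CommRingCat.of A))).hom ≫ (a • 𝟙 (DCoh.inD X (Coh.structureModule X))) := by
  have := Lin.linear_pullback (A := A) (X ↘ Spec (CommRingCat.of A))
  have := Lin.linear_mapDerivedCategory A (Scheme.Modules.pullback (X ↘ Spec (CommRingCat.of A)))
  rw [CategoryTheory.Functor.map_smul, CategoryTheory.Functor.map_id, Linear.smul_comp, Linear.comp_smul, Category.id_comp,
    Category.comp_id]

theorem adjE_smul (M : DCoh.D X) (a : A) (g : DCoh.inD X (Coh.structureModule X) ⟶ M) :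
    adjE (A := A) M (a • g) = a • adjE (A := A) M g := by
  have h1 : a • g = (a • 𝟙 _) ≫ g := by rw [Linear.smul_comp, Category.id_comp]
  have h2 : a • adjE (A := A) M g = (a • 𝟙 _) ≫ adjE (A := A) M g := by
    rw [Linear.smul_comp, Category.id_comp]
  rw [h2, h1, adjE_apply, adjE_apply, ← Category.assoc, ← pullO_smul, Category.assoc,
    Adjunction.homEquiv_naturality_left]

/-- `Hom(O_X, M) ≃ Hom(O_S, Rπ_* M)`, linear. -/
noncomputable def adjL (M : DCoh.D X) : (DCoh.inD X (Coh.structureModule X) ⟶ M) ≃ₗ[A]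
    (DCoh.inD (Spec (CommRingCat.of A)) (Coh.structureModule (Spec (CommRingCat.of A))) ⟶ (DCoh.Rpush (X ↘ Spec (CommRingCat.of A))).obj M) :=
  { adjE M with
    map_add' := adjE_add M
    map_smul' := adjE_smul M }

/-- `H^0(Rπ_*(K⟦i⟧)) ≅ H^i(Rπ_* K)`. -/
noncomputable def shE (K : DCoh.D X) (i : ℤ) : DCoh.HD ((DCoh.Rpush (X ↘ Spec (CommRingCat.of A))).obj (K⟦i⟧)) 0 ≅
    DCoh.HD ((DCoh.Rpush (X ↘ Spec (CommRingCat.of A))).obj K) i :=
  (DerivedCategory.homologyFunctor _ 0).mapIso (((DCoh.Rpush (X ↘ Spec (CommRingCat.of A))).commShiftIso i).app K) ≪≫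
    ((DerivedCategory.homologyFunctor (Spec (CommRingCat.of A)).Modules 0).shiftIso i 0 i (by simp)).app _

theorem isQCohD_shift {K : DCoh.D X} (hK : DCoh.IsQCohD ((DCoh.Rpush (X ↘ Spec (CommRingCat.of A))).obj K)) (i : ℤ) :
    DCoh.IsQCohD ((DCoh.Rpush (X ↘ Spec (CommRingCat.of A))).obj (K⟦i⟧)) :=
  QCohD.isQCohD_of_iso (((DCoh.Rpush (X ↘ Spec (CommRingCat.of A))).commShiftIso i).symm.app K) (QCohD.isQCohD_shift hK i)

/-- `Hom(O_X, K⟦i⟧)` is a finite `A`-module iff `H^i(Rπ_* K)` is coherent. -/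
theorem finite_hom_iff (K : DCoh.D X) (hK : DCoh.IsQCohD ((DCoh.Rpush (X ↘ Spec (CommRingCat.of A))).obj K)) (i : ℤ) :
    Module.Finite A (DCoh.inD X (Coh.structureModule X) ⟶ K⟦i⟧) ↔
      Coh.IsCoh (DCoh.HD ((DCoh.Rpush (X ↘ Spec (CommRingCat.of A))).obj K) i) := by
  rw [Module.Finite.equiv_iff (adjL (A := A) (K⟦i⟧)), finite_iff_isCoh _ (isQCohD_shift hK i)]
  exact ⟨Groth.Agent.Sga67.CohBasic.isCoh_of_iso (shE (A := A) K i),
    Groth.Agent.Sga67.CohBasic.isCoh_of_iso (shE (A := A) K i).symm⟩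

/-- `Hom(O_X, K⟦i⟧)` is nonzero iff `H^i(Rπ_* K)` is nonzero. -/
theorem nontrivial_hom_iff (K : DCoh.D X) (hK : DCoh.IsQCohD ((DCoh.Rpush (X ↘ Spec (CommRingCat.of A))).obj K)) (i : ℤ) :
    Nontrivial (DCoh.inD X (Coh.structureModule X) ⟶ K⟦i⟧) ↔
      ¬ IsZero (DCoh.HD ((DCoh.Rpush (X ↘ Spec (CommRingCat.of A))).obj K) i) := by
  rw [(adjL (A := A) (K⟦i⟧)).toEquiv.nontrivial_congr, nontrivial_iff _ (isQCohD_shift hK i),
    (shE (A := A) K i).isZero_iff]

end Flat

end K352.HomFin
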