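import Groth.Agent.S6720
import Groth.Agent.CohqB.DevSupport
import Groth.Agent.DEquiv.K352.Sky

/-!
# Orthogonality to the skyscraper sheaves at closed points, in the category of perfect objects
-/

set_option autoImplicit false
universe u
open CategoryTheory CategoryTheory.Limits AlgebraicGeometry
attribute [local instance] HasDerivedCategory.standard

namespace K352.Orth

open Groth.Agent K352.Sky

open DerivedCategory in
theorem isZero_of_homology {C : Type*} [Category* C] [Abelian C] [HasDerivedCategory C] (X : DerivedCategory C)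
    (h : ∀ i, IsZero ((homologyFunctor C i).obj X)) : IsZero X := by
  have : X.IsGE 1 := (isGE_iff X 1).2 (fun i _ => h i)
  have : X.IsLE 0 := (isLE_iff X 0).2 (fun i _ => h i)
  exact (TStructure.t : Triangulated.TStructure (DerivedCategory C)).isZero X 0 1 (by lia)

/-- Zero near every closed point implies zero. -/
theorem isZero_of_near (X : Scheme.{u}) [CompactSpace X] (K : DCoh.D X)
    (h : ∀ x : X, IsClosed ({x} : Set X) → ∃ U : X.Opens, x ∈ U ∧
      ∀ (i : ℤ) (y : X), y ∈ U → y ∉ CohB1.support (DCoh.HD K i)) : IsZero K := by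
  refine isZero_of_homology K fun i => ?_
  refine CohqB.DevSupport.isZero_of_support_eq_empty (M := DCoh.HD K i) ?_
  refine Set.eq_empty_iff_forall_notMem.2 fun y hy => ?_
  obtain ⟨x, hx, hxc⟩ := (isClosed_closure (s := ({y} : Set X))).exists_closed_singleton
    ⟨y, subset_closure rfl⟩
  obtain ⟨U, hxU, hU⟩ := h x hxc
  refine hU i y ?_ hy
  exact (specializes_iff_mem_closure.2 hx).mem_open U.2 hxU

section

variable {D : Type*} [Category* D] [Preadditive D] [HasShift D ℤ] (P : ObjectProperty D) [P.IsStableUnderShift ℤ]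

theorem lift_zero {E K : P.FullSubcategory} (h : ∀ (i : ℤ) (f : E ⟶ (shiftFunctor P.FullSubcategory i).obj K), f = 0)
    (i : ℤ) (φ : E.obj ⟶ (shiftFunctor D i).obj K.obj) : φ = 0 := by
  have h1 := h i (ObjectProperty.homMk (φ ≫ (P.ι.commShiftIso i).inv.app K))
  have h2 : φ ≫ (P.ι.commShiftIso i).inv.app K = 0 := congrArg (fun f => f.hom) h1
  rw [← cancel_mono ((P.ι.commShiftIso i).inv.app K), h2, zero_comp]

omit [HasShift D ℤ] [P.IsStableUnderShift ℤ] in
theorem isZero_iff {K : P.FullSubcategory} : IsZero K.obj ↔ IsZero K := by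
  rw [IsZero.iff_id_eq_zero, IsZero.iff_id_eq_zero]
  constructor
  · intro h
    exact ObjectProperty.hom_ext _ h
  · intro h
    exact congrArg (fun f => f.hom) h

end

variable (k : Type u) [Field k] (X : Scheme.{u}) [X.Over (Spec (.of k))]
  [LocallyOfFiniteType (X ↘ Spec (.of k))] [CompactSpace X] (hreg : Models.IsRegularScheme X)

include k hreg in
theorem isZero_of_orth₁ (K : DCoh.D X) (hK : DCoh.IsPerfect K)
    (h : ∀ x : X, IsClosed ({x} : Set X) → ∀ (i : ℤ)
      (φ : DCoh.inD X (sky X x) ⟶ (shiftFunctor (DCoh.D X) i).obj K), φ = 0) : IsZero K :=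
  isZero_of_near X K fun x hx => (Groth.Agent.S6720.result k X hreg x hx K hK).1 (h x hx)

include k hreg in
theorem isZero_of_orth₂ (K : DCoh.D X) (hK : DCoh.IsPerfect K)
    (h : ∀ x : X, IsClosed ({x} : Set X) → ∀ (i : ℤ)
      (φ : K ⟶ (shiftFunctor (DCoh.D X) i).obj (DCoh.inD X (sky X x))), φ = 0) : IsZero K :=
  isZero_of_near X K fun x hx => (Groth.Agent.S6720.result k X hreg x hx K hK).2 (h x hx)

end K352.Orth
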