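import Groth.Agent.DEquiv.K352.SibMain
import Groth.Agent.KSix.K242.QCohKit
import Groth.Agent.DEquiv.K351.LTModIso
import Groth.Prelude.Def_CohB1
import Groth.Prelude.Def_FlatMod2
import Groth.Prelude.Def_DDual2
import Mathlib.AlgebraicGeometry.Morphisms.FiniteType
import Mathlib.AlgebraicGeometry.Morphisms.Separated
import Mathlib.AlgebraicGeometry.Morphisms.Finite
import Mathlib.AlgebraicGeometry.IdealSheaf.Subscheme

/-!
# Sibling functors of exact functors preserving coherent modules: the assembly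

`main`: the sibling theorem from the kernel theorem for exact functors `Coh(O_X) ⥤ Coh(O_Y)` (`h53`) and the comparison of
`Φ_K` with `M ↦ pr_{2,*}(pr_1^* M ⊗ K)` on coherent modules (`hB`).
-/

set_option autoImplicit false

universe u

open CategoryTheory CategoryTheory.Limits AlgebraicGeometry

attribute [local instance] HasDerivedCategory.standard

namespace K352.SibAsm

open Groth.Agent.PerfA.CohSerre K160.HeartAbs K160.CohHeart Groth.Agent.PerfC.IsoLocus K352.SibMain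

open scoped Groth.Agent.Dcoh.MonCat Groth.Agent.Dcoh.ModD

/-- `- ⊗^L K` is exact. -/
theorem isTriang_LTensorMod {X : Scheme.{u}} (K : X.Modules) [DCoh.HasLTensorMod K] : IsTriang (DCoh.LTensorMod K) := by
  have := Groth.Agent.Dcoh.ModTens.hasLTensorCx (Groth.Agent.Cohder.RelPCMon.sgl K)
  obtain ⟨e⟩ := K351.LTModIso.nonempty_cx K
  exact (K242.QCohKit.isTriang_LTensorCx _).of_iso e.symm

/-- `Φ_K` is exact. -/
theorem isTriang_Phi {X Y P : Scheme.{u}} (p : P ⟶ X) (q : P ⟶ Y) (K : P.Modules) [DCoh.HasLpull p] [DCoh.HasRpush q]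
    [DCoh.HasLTensorMod K] : IsTriang (DCoh.Lpull p ⋙ DCoh.LTensorMod K ⋙ DCoh.Rpush q) :=
  (K242.QCohKit.isTriang_Lpull p).comp ((isTriang_LTensorMod K).comp (K242.QCohKit.isTriang_Rpush q))

theorem isNoetherian (k : Type u) [Field k] (X : Scheme.{u}) [X.Over (Spec (.of k))]
    [LocallyOfFiniteType (X ↘ Spec (.of k))] [CompactSpace X] : IsNoetherian X := by
  have := LocallyOfFiniteType.isLocallyNoetherian (X ↘ Spec (.of k))
  exact {}

theorem main
    (k : Type u) [Field k] (X Y : Scheme.{u}) [X.Over (Spec (.of k))] [Y.Over (Spec (.of k))]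
    [LocallyOfFiniteType (X ↘ Spec (.of k))] [CompactSpace X]
    [LocallyOfFiniteType (Y ↘ Spec (.of k))] [CompactSpace Y]
    [(SGA6.cohbP X).IsTriangulated] [(SGA6.cohbP Y).IsTriangulated]
    (F : (SGA6.cohbP X).FullSubcategory ⥤ (SGA6.cohbP Y).FullSubcategory) [F.Additive] [F.Linear k] [F.CommShift ℤ] [F.IsTriangulated]
    (hF : ∀ (M : X.Modules), Coh.IsCoh M → ∀ (hM : SGA6.cohbP X (DCoh.inD X M)),
      ∃ N : Y.Modules, Coh.IsCoh N ∧ Nonempty ((F.obj ⟨DCoh.inD X M, hM⟩).obj ≅ DCoh.inD Y N))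
    {P : Scheme.{u}} (p : P ⟶ X) (q : P ⟶ Y)
    [DCoh.HasLpull p] [DCoh.HasRpush q] [∀ K : P.Modules, DCoh.HasLTensorMod K] (Pr : P.Modules → Prop)
    (h53 : ∀ (G : (ObjectProperty.FullSubcategory fun M : X.Modules => Coh.IsCoh M) ⥤
        (ObjectProperty.FullSubcategory fun M : Y.Modules => Coh.IsCoh M)) (_ : G.Additive) (_ : G.Linear k)
        (_ : Limits.PreservesFiniteLimits G) (_ : Limits.PreservesFiniteColimits G),
      ∃ K : P.Modules, Pr K ∧ Nonempty (G ⋙ ObjectProperty.ι (fun M : Y.Modules => Coh.IsCoh M) ≅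
        ObjectProperty.ι (fun M : X.Modules => Coh.IsCoh M) ⋙ Scheme.Modules.pullback p ⋙
          DCoh.tensorRightMod K ⋙ Coh.push q))
    (hB : ∀ K : P.Modules, Pr K → Nonempty (ObjectProperty.ι (fun M : X.Modules => Coh.IsCoh M) ⋙
        DerivedCategory.singleFunctor X.Modules 0 ⋙ DCoh.Lpull p ⋙ DCoh.LTensorMod K ⋙ DCoh.Rpush q ≅
      (ObjectProperty.ι (fun M : X.Modules => Coh.IsCoh M) ⋙ Scheme.Modules.pullback p ⋙
          DCoh.tensorRightMod K ⋙ Coh.push q) ⋙ DerivedCategory.singleFunctor Y.Modules 0)) :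
    ∃ K : P.Modules, Pr K ∧
      (∃ e : ∀ (M : X.Modules), Coh.IsCoh M → ∀ (hM : SGA6.cohbP X (DCoh.inD X M)),
          (F.obj ⟨DCoh.inD X M, hM⟩).obj ≅ (DCoh.Lpull p ⋙ DCoh.LTensorMod K ⋙ DCoh.Rpush q).obj (DCoh.inD X M),
        ∀ (M N : X.Modules) (hcM : Coh.IsCoh M) (hcN : Coh.IsCoh N)
          (hM : SGA6.cohbP X (DCoh.inD X M)) (hN : SGA6.cohbP X (DCoh.inD X N)) (φ : M ⟶ N),
          (F.map (ObjectProperty.homMk ((DerivedCategory.singleFunctor X.Modules 0).map φ) :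
              (⟨DCoh.inD X M, hM⟩ : (SGA6.cohbP X).FullSubcategory) ⟶ ⟨DCoh.inD X N, hN⟩)).hom ≫ (e N hcN hN).hom =
            (e M hcM hM).hom ≫ (DCoh.Lpull p ⋙ DCoh.LTensorMod K ⋙ DCoh.Rpush q).map
              ((DerivedCategory.singleFunctor X.Modules 0).map φ)) ∧
      (∀ L : (SGA6.cohbP X).FullSubcategory, Nonempty ((F.obj L).obj ≅
        (DCoh.Lpull p ⋙ DCoh.LTensorMod K ⋙ DCoh.Rpush q).obj L.obj)) := by
  have := isNoetherian k X
  have := isNoetherian k Y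
  obtain ⟨G, ⟨e⟩⟩ := exists_heart (F := F) hF
  obtain ⟨h1, h2, h3⟩ := exact_heart e
  have h4 := linear_heart k e
  obtain ⟨K, hK, ⟨a⟩⟩ := h53 G h1 h4 h2 h3
  obtain ⟨b⟩ := hB K hK
  exact ⟨K, hK, siblings (F := F) hF (isTriang_Phi p q K) e
    (b ≪≫ Functor.isoWhiskerRight a.symm (DerivedCategory.singleFunctor Y.Modules 0))⟩

end K352.SibAsm
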