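import Groth.Agent.DEquiv.K350.Sib
import Mathlib.CategoryTheory.Linear.LinearFunctor
import Mathlib.Algebra.Homology.ShortComplex.ExactFunctor
import Mathlib.CategoryTheory.EssentialImage

/-!
# An exact functor sending a heart to a heart is exact on hearts

`ι : A ⥤ C` and `S : A' ⥤ D` are functors from abelian to triangulated categories, short exact sequences of `A` give
distinguished triangles, `S` is fully faithful and there are no nonzero maps `(S M)⟦1⟧ ⟶ S N`.  If `F : C ⥤ D` is exact and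
`G ⋙ S ≅ ι ⋙ F`, then `G` is additive (linear if `F` is) and exact.
-/

set_option autoImplicit false
set_option linter.unusedSectionVars false

universe v₁ v₂ v₃ v₄ u₁ u₂ u₃ u₄

open CategoryTheory CategoryTheory.Limits CategoryTheory.Pretriangulated CategoryTheory.Triangulated

namespace K352.SibFun

section

variable {A' : Type u₂} [Category.{v₂} A'] [Abelian A']
  {D : Type u₄} [Category.{v₄} D] [Preadditive D] [HasZeroObject D] [HasShift D ℤ]
  [∀ n : ℤ, (shiftFunctor D n).Additive] [Pretriangulated D] (S : A' ⥤ D) [S.Full] [S.Faithful] [S.Additive]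

/-- No nonzero map `(S M)⟦1⟧ ⟶ S N`. -/
def Neg1 : Prop := ∀ (M N : A') (f : (S.obj M)⟦(1 : ℤ)⟧ ⟶ S.obj N), f = 0

variable {S}

/-- A distinguished triangle in the heart is a short exact sequence. -/
theorem shortExact_of_dist (hS : Neg1 S) {K E M : A'} (i : K ⟶ E) (p : E ⟶ M) (δ : S.obj M ⟶ (S.obj K)⟦(1 : ℤ)⟧)
    (hT : Triangle.mk (S.map i) (S.map p) δ ∈ distTriang D) :
    ∃ w : i ≫ p = 0, (ShortComplex.mk i p w).ShortExact := by
  have w : i ≫ p = 0 := S.map_injective (by
    rw [Functor.map_comp, Functor.map_zero]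
    exact comp_distTriang_mor_zero₁₂ _ hT)
  have hi : Mono i := by
    refine Preadditive.mono_of_cancel_zero _ fun {W} h hh => ?_
    have h1 : (S.map h)⟦(1 : ℤ)⟧' ≫ (S.map i)⟦(1 : ℤ)⟧' = 0 := by
      rw [← Functor.map_comp, ← Functor.map_comp, hh, Functor.map_zero, Functor.map_zero]
    obtain ⟨g, hg⟩ := Triangle.coyoneda_exact₁ _ hT ((S.map h)⟦(1 : ℤ)⟧') h1
    have h2 : g = 0 := hS W M g
    have h3 : (S.map h)⟦(1 : ℤ)⟧' = 0 := hg.trans ((congrArg (· ≫ _) h2).trans zero_comp)
    exact S.map_injective (((shiftFunctor D (1 : ℤ)).map_injective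
      (h3.trans (Functor.map_zero _ _ _).symm)).trans (Functor.map_zero _ _ _).symm)
  have hp : Epi p := by
    refine Preadditive.epi_of_cancel_zero _ fun {W} h hh => ?_
    have h1 : (Triangle.mk (S.map i) (S.map p) δ).mor₂ ≫ S.map h = 0 := by
      change S.map p ≫ S.map h = 0
      rw [← Functor.map_comp, hh, Functor.map_zero]
    obtain ⟨g, hg⟩ := Triangle.yoneda_exact₃ _ hT (S.map h) h1
    have h2 : g = 0 := hS K W g
    exact S.map_injective ((hg.trans ((congrArg (_ ≫ ·) h2).trans comp_zero)).trans (Functor.map_zero _ _ _).symm)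
  refine ⟨w, ShortComplex.ShortExact.mk' (ShortComplex.exact_of_f_is_kernel _
    (KernelFork.IsLimit.ofι' i w fun {W} g hg => ?_)) hi hp⟩
  have h1 : S.map g ≫ (Triangle.mk (S.map i) (S.map p) δ).mor₂ = 0 := by
    change S.map g ≫ S.map p = 0
    rw [← Functor.map_comp, hg, Functor.map_zero]
  have h2 := Triangle.coyoneda_exact₂ _ hT (S.map g) h1
  refine ⟨S.preimage h2.choose, S.map_injective ?_⟩
  rw [Functor.map_comp, Functor.map_preimage]
  exact h2.choose_spec.symm

end

section

variable {A : Type u₁} [Category.{v₁} A] [Abelian A] {A' : Type u₂} [Category.{v₂} A'] [Abelian A']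
  {C : Type u₃} [Category.{v₃} C] [Preadditive C] [HasZeroObject C] [HasShift C ℤ]
  [∀ n : ℤ, (shiftFunctor C n).Additive] [Pretriangulated C]
  {D : Type u₄} [Category.{v₄} D] [Preadditive D] [HasZeroObject D] [HasShift D ℤ]
  [∀ n : ℤ, (shiftFunctor D n).Additive] [Pretriangulated D]
  {ι : A ⥤ C} {S : A' ⥤ D} {F : C ⥤ D} {G : A ⥤ A'} (e : G ⋙ S ≅ ι ⋙ F)

include e in
theorem additive [ι.Additive] [F.Additive] [S.Additive] [S.Faithful] : G.Additive where
  map_add {X Y f g} := by
    have h := (Functor.additive_of_iso e.symm).map_add (f := f) (g := g)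
    exact S.map_injective (h.trans S.map_add.symm)

include e in
theorem linear (R : Type*) [Ring R] [Linear R A] [Linear R A'] [Linear R C] [Linear R D] [ι.Additive] [F.Additive]
    [S.Additive] [ι.Linear R] [F.Linear R] [S.Linear R] [S.Faithful] : G.Linear R where
  map_smul {X Y} f r := by
    have h1 := e.hom.naturality (r • f)
    have h2 := e.hom.naturality f
    dsimp only [Functor.comp_map] at h1 h2
    refine S.map_injective (Eq.trans ?_ (S.map_smul r (G.map f)).symm)
    rw [← cancel_mono (e.hom.app Y), h1, Linear.smul_comp, h2, Functor.map_smul, Functor.map_smul, Linear.comp_smul]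

omit [Preadditive D] [HasZeroObject D] [HasShift D ℤ] [∀ n : ℤ, (shiftFunctor D n).Additive] [Pretriangulated D] in
lemma aux4 {P Q R R' : D} (a : P ⟶ Q) (b : Q ⟶ R) (c : R ⟶ R') (d : R' ⟶ R) (h : c ≫ d = 𝟙 R) :
    (a ≫ b ≫ c) ≫ d = a ≫ b := by simp [h]

include e in
theorem shortExact_map [F.CommShift ℤ] [F.IsTriangulated] [S.Full] [S.Faithful] [S.Additive] (hS : Neg1 S)
    {K E M : A} (i : K ⟶ E) (p : E ⟶ M) (δ : ι.obj M ⟶ (ι.obj K)⟦(1 : ℤ)⟧)
    (hT : Triangle.mk (ι.map i) (ι.map p) δ ∈ distTriang C) :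
    ∃ w : G.map i ≫ G.map p = 0, (ShortComplex.mk (G.map i) (G.map p) w).ShortExact := by
  have h1 := F.map_distinguished _ hT
  let δ' : S.obj (G.obj M) ⟶ (S.obj (G.obj K))⟦(1 : ℤ)⟧ :=
    e.hom.app M ≫ (F.mapTriangle.obj (Triangle.mk (ι.map i) (ι.map p) δ)).mor₃ ≫ (e.inv.app K)⟦(1 : ℤ)⟧'
  refine shortExact_of_dist hS _ _ δ' (isomorphic_distinguished _ h1 _
    (Triangle.isoMk _ _ (e.app K) (e.app E) (e.app M) ?_ ?_ ?_))
  · exact e.hom.naturality i
  · exact e.hom.naturality p
  · refine aux4 _ _ _ _ ?_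
    exact ((shiftFunctor D (1 : ℤ)).map_comp _ _).symm.trans
      ((congrArg (shiftFunctor D (1 : ℤ)).map (e.inv_hom_id_app K)).trans (CategoryTheory.Functor.map_id _ _))

include e in
/-- Exactness on the hearts. -/
theorem exact [F.CommShift ℤ] [F.IsTriangulated] [S.Full] [S.Faithful] [S.Additive] [ι.Additive] (hS : Neg1 S)
    (hι : ∀ {K E M : A} (i : K ⟶ E) (p : E ⟶ M) (w : i ≫ p = 0),
      (ShortComplex.mk i p w).ShortExact → ∃ δ : ι.obj M ⟶ (ι.obj K)⟦(1 : ℤ)⟧,
        Triangle.mk (ι.map i) (ι.map p) δ ∈ distTriang C) :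
    PreservesFiniteLimits G ∧ PreservesFiniteColimits G := by
  have := additive e
  refine ((Functor.exact_tfae G).out 0 3).1 fun T hT => ?_
  obtain ⟨δ, hδ⟩ := hι T.f T.g T.zero hT
  obtain ⟨_, h⟩ := shortExact_map e hS T.f T.g δ hδ
  exact h

end

end K352.SibFun
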