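import Groth.Agent.DEquiv.K352.SibFun
import Groth.Agent.DEquiv.K160.SibSch
import Groth.Prelude.Def_KLin

/-!
# Exact functors `D^b_Coh(O_X) ⥤ D^b_Coh(O_Y)` preserving coherent modules in degree zero

`X`, `Y` Noetherian, `F : D^b_Coh(O_X) ⥤ D^b_Coh(O_Y)` exact, sending coherent modules in degree `0` to coherent modules in
degree `0`.

* `exists_heart`: there is an exact functor `G` between the categories of coherent modules with `F(M[0]) ≅ (G M)[0]`,
  naturally in `M`; `G` is linear if `F` is;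
* `negVan`: `Hom(F(M[0]), F(N[0])[q]) = 0` for `q < 0`;
* `siblings`: if `Φ : D(O_X) ⥤ D(O_Y)` is exact with `Φ(M[0]) ≅ (G M)[0]` naturally in `M` coherent, then `F` and `Φ` are
  siblings.
-/

set_option autoImplicit false
set_option linter.unusedSectionVars false

universe u

open CategoryTheory CategoryTheory.Limits AlgebraicGeometry

attribute [local instance] HasDerivedCategory.standard

namespace K352.SibMain

open Groth.Agent.PerfA.CohSerre K160.HeartAbs K160.CohHeart K160.SibSch Groth.Agent.PerfC.IsoLocus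

section

variable (X : Scheme.{u})

/-- The inclusion of coherent modules in degree zero. -/
noncomputable abbrev cohD : (ObjectProperty.FullSubcategory fun M : X.Modules => Coh.IsCoh M) ⥤ DCoh.D X :=
  ObjectProperty.ι (fun M : X.Modules => Coh.IsCoh M) ⋙ DerivedCategory.singleFunctor X.Modules 0

variable {X}

theorem neg_zero (M N : X.Modules) (q : ℤ) (hq : q < 0) (f : DCoh.inD X M ⟶ (DCoh.inD X N)⟦q⟧) : f = 0 := by
  refine DerivedCategory.TStructure.t.zero_of_isLE_of_isGE f 0 (-q) (by omega)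
    (inferInstanceAs ((DCoh.inD X M).IsLE 0)) ?_
  have : DerivedCategory.TStructure.t.IsGE (DCoh.inD X N) 0 := inferInstanceAs ((DCoh.inD X N).IsGE 0)
  exact DerivedCategory.TStructure.t.isGE_shift _ 0 q (-q) (by omega)

theorem neg_one (M N : X.Modules) (f : (DCoh.inD X M)⟦(1 : ℤ)⟧ ⟶ DCoh.inD X N) : f = 0 := by
  have : DerivedCategory.TStructure.t.IsLE (DCoh.inD X M) 0 := inferInstanceAs ((DCoh.inD X M).IsLE 0)
  exact DerivedCategory.TStructure.t.zero_of_isLE_of_isGE f (-1) 0 (by omega)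
    (DerivedCategory.TStructure.t.isLE_shift _ 0 1 (-1) (by omega)) (inferInstanceAs ((DCoh.inD X N).IsGE 0))

end

section

variable {X Y : Scheme.{u}} [IsNoetherian X] [IsNoetherian Y]
  [(SGA6.cohbP X).IsTriangulated] [(SGA6.cohbP Y).IsTriangulated]
  (F : (SGA6.cohbP X).FullSubcategory ⥤ (SGA6.cohbP Y).FullSubcategory) [F.CommShift ℤ] [F.IsTriangulated]

/-- `F` sends coherent modules in degree `0` to coherent modules in degree `0`. -/
def PresCoh : Prop := ∀ (M : X.Modules), Coh.IsCoh M → ∀ (hM : SGA6.cohbP X (DCoh.inD X M)),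
  ∃ N : Y.Modules, Coh.IsCoh N ∧ Nonempty ((F.obj ⟨DCoh.inD X M, hM⟩).obj ≅ DCoh.inD Y N)

variable {F}

theorem negVan (hF : PresCoh F) : K350.Sib.NegVan (inC (cohb_iff X)) (F ⋙ (SGA6.cohbP Y).ι) := by
  intro M N q hq f
  have ob : ∀ M : CohX X, ∃ M' : Y.Modules, Nonempty ((F ⋙ (SGA6.cohbP Y).ι).obj ((inC (cohb_iff X)).obj M) ≅ DCoh.inD Y M') :=
    fun M => by
      obtain ⟨M', -, h⟩ := hF M.obj M.property (prop_single (cohb_iff X) M.obj M.property)
      exact ⟨M', h⟩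
  obtain ⟨M', ⟨a⟩⟩ := ob M
  obtain ⟨N', ⟨b⟩⟩ := ob N
  have h : a.inv ≫ f ≫ b.hom⟦q⟧' = 0 := neg_zero M' N' q hq _
  rw [← cancel_epi a.inv, ← cancel_mono (b.hom⟦q⟧'), Category.assoc, h]
  simp

/-- The functor on coherent modules. -/
theorem exists_heart (hF : PresCoh F) :
    ∃ (G : (ObjectProperty.FullSubcategory fun M : X.Modules => Coh.IsCoh M) ⥤
        (ObjectProperty.FullSubcategory fun M : Y.Modules => Coh.IsCoh M)),
      Nonempty (G ⋙ cohD Y ≅ inC (cohb_iff X) ⋙ F ⋙ (SGA6.cohbP Y).ι) := by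
  have hf : (cohD Y).Full := inferInstance
  have hf' : (cohD Y).Faithful := inferInstance
  exact ⟨Functor.essImage.liftFunctor (inC (cohb_iff X) ⋙ F ⋙ (SGA6.cohbP Y).ι) (cohD Y) (fun M => by
    obtain ⟨N, hN, ⟨e⟩⟩ := hF M.obj M.property (prop_single (cohb_iff X) M.obj M.property)
    exact ⟨⟨N, hN⟩, ⟨e.symm⟩⟩), ⟨Functor.essImage.liftFunctorCompIso _ _ _⟩⟩

/-- It is exact. -/
theorem exact_heart {G : (ObjectProperty.FullSubcategory fun M : X.Modules => Coh.IsCoh M) ⥤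
        (ObjectProperty.FullSubcategory fun M : Y.Modules => Coh.IsCoh M)}
    (e : G ⋙ cohD Y ≅ inC (cohb_iff X) ⋙ F ⋙ (SGA6.cohbP Y).ι) :
    G.Additive ∧ PreservesFiniteLimits G ∧ PreservesFiniteColimits G := by
  have h := K160.CohHeart.heartData (cohb_iff X)
  have := h.additive
  have : (cohD Y).Additive := inferInstanceAs ((cohp Y).ι ⋙ DerivedCategory.singleFunctor Y.Modules 0).Additive
  have : F.Additive := inferInstance
  exact ⟨SibFun.additive (A := CohX X) (A' := CohX Y) e,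
    SibFun.exact (A := CohX X) (A' := CohX Y) e (fun M N f => neg_one M.obj N.obj f) (fun i p w hS => h.ses0 i p w hS)⟩

/-- It is linear. -/
theorem linear_heart (k : Type u) [Field k] [X.Over (Spec (.of k))] [Y.Over (Spec (.of k))] [F.Linear k]
    {G : (ObjectProperty.FullSubcategory fun M : X.Modules => Coh.IsCoh M) ⥤
        (ObjectProperty.FullSubcategory fun M : Y.Modules => Coh.IsCoh M)}
    (e : G ⋙ cohD Y ≅ inC (cohb_iff X) ⋙ F ⋙ (SGA6.cohbP Y).ι) : G.Linear k := by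
  have h := K160.CohHeart.heartData (cohb_iff X)
  have := h.additive
  have : F.Additive := inferInstance
  have : (inC (cohb_iff X)).Linear k := ⟨fun {M N} f r => ObjectProperty.hom_ext _
    ((DerivedCategory.singleFunctor X.Modules 0).map_smul r f.hom)⟩
  exact SibFun.linear (A := CohX X) (A' := CohX Y) e k

/-- Siblings. -/
theorem siblings (hF : PresCoh F) {Φ : DCoh.D X ⥤ DCoh.D Y} (hΦ : IsTriang Φ)
    {G : (ObjectProperty.FullSubcategory fun M : X.Modules => Coh.IsCoh M) ⥤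
        (ObjectProperty.FullSubcategory fun M : Y.Modules => Coh.IsCoh M)}
    (e : G ⋙ cohD Y ≅ inC (cohb_iff X) ⋙ F ⋙ (SGA6.cohbP Y).ι) (e' : cohD X ⋙ Φ ≅ G ⋙ cohD Y) :
    (∃ e : ∀ (M : X.Modules), Coh.IsCoh M → ∀ (hM : SGA6.cohbP X (DCoh.inD X M)),
          (F.obj ⟨DCoh.inD X M, hM⟩).obj ≅ Φ.obj (DCoh.inD X M),
        ∀ (M N : X.Modules) (hcM : Coh.IsCoh M) (hcN : Coh.IsCoh N)
          (hM : SGA6.cohbP X (DCoh.inD X M)) (hN : SGA6.cohbP X (DCoh.inD X N)) (φ : M ⟶ N),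
          (F.map (ObjectProperty.homMk ((DerivedCategory.singleFunctor X.Modules 0).map φ) :
              (⟨DCoh.inD X M, hM⟩ : (SGA6.cohbP X).FullSubcategory) ⟶ ⟨DCoh.inD X N, hN⟩)).hom ≫ (e N hcN hN).hom =
            (e M hcM hM).hom ≫ Φ.map ((DerivedCategory.singleFunctor X.Modules 0).map φ)) ∧
      (∀ L : (SGA6.cohbP X).FullSubcategory, Nonempty ((F.obj L).obj ≅ Φ.obj L.obj)) := by
  let t : cohD X ⋙ Φ ≅ inC (cohb_iff X) ⋙ F ⋙ (SGA6.cohbP Y).ι := e' ≪≫ e
  have hnat : ∀ {M N : CohX X} (φ : M ⟶ N), (F.map ((inC (cohb_iff X)).map φ)).hom ≫ (t.symm.app N).hom =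
      (t.symm.app M).hom ≫ Φ.map ((DerivedCategory.singleFunctor X.Modules 0).map φ.hom) :=
    fun φ => t.inv.naturality φ
  refine ⟨⟨fun M hM _ => (t.symm.app ⟨M, hM⟩ :), fun M N hcM hcN hM hN φ =>
    hnat (ObjectProperty.homMk φ : (⟨M, hcM⟩ : CohX X) ⟶ ⟨N, hcN⟩)⟩, fun L => ?_⟩
  obtain ⟨_, _⟩ := hΦ
  let t' : inC (cohb_iff X) ⋙ F ⋙ (SGA6.cohbP Y).ι ≅ inC (cohb_iff X) ⋙ ((SGA6.cohbP X).ι ⋙ Φ) :=
    NatIso.ofComponents (fun M => (t.symm.app M :)) (fun {M N} φ => hnat φ)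
  exact K350.Sib.siblings (K160.CohHeart.heartData (cohb_iff X)) (F := F ⋙ (SGA6.cohbP Y).ι)
    (F' := (SGA6.cohbP X).ι ⋙ Φ) t' (negVan hF) L (bounded (cohb_iff X) L)

end

end K352.SibMain
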