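import Groth.Agent.DEquiv.K352.SibTen
import Groth.Agent.PerfC.RpushSingle
import Groth.Agent.PerfC.AffPushD
import Groth.Agent.FormalA.RpushFlasque
import Groth.Agent.FormalA.AnnIdeal
import Groth.Agent.FormalA.ProperOver
import Groth.Agent.FormalB.PullCoh
import Groth.Agent.Ega1.SuppTensorMod
import Groth.Agent.S2297
import Mathlib.AlgebraicGeometry.ZariskisMainTheorem

/-!
# Derived direct images of coherent modules with support finite over the base

* `nonempty_conc`: a functor with values in complexes concentrated in degree `0` is `H^0` placed in degree `0`;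
* `isZero_Rpush`: `R^n q_* E = 0`, `n > 0`, for `E` coherent with support in a closed subset finite over `Y`;
* `nonempty_iso`: `Rq_*(Lp^*(M[0]) ⊗^L K) ≅ (q_*(p^* M ⊗ K))[0]` naturally in the coherent module `M` if `K` is coherent,
  flat over `X` and its support is finite over `Y`.
-/

set_option autoImplicit false

universe w v v' u u'

open CategoryTheory CategoryTheory.Limits AlgebraicGeometry

attribute [local instance] HasDerivedCategory.standard

namespace K352.SibPush

open Groth.Agent Groth.Agent.Dcoh Groth.Agent.Models2.FMExact Groth.Agent.FormalA.ProperOver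

section

variable {C : Type u'} [Category.{v'} C] {B : Type u} [Category.{v} B] [Abelian B] [HasDerivedCategory.{w} B]

/-- A functor with values in complexes concentrated in degree `0`. -/
theorem nonempty_conc (T : C ⥤ DerivedCategory B) (h : ∀ M, (T.obj M).IsLE 0 ∧ (T.obj M).IsGE 0) :
    Nonempty (T ≅ (T ⋙ DerivedCategory.homologyFunctor B 0) ⋙ DerivedCategory.singleFunctor B 0) := by
  have hS : ∀ M, (DerivedCategory.singleFunctor B 0).essImage (T.obj M) := fun M => by
    obtain ⟨h1, h2⟩ := h M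
    obtain ⟨N, ⟨e⟩⟩ := DerivedCategory.exists_iso_singleFunctor_obj_of_isGE_of_isLE (T.obj M) 0
    exact ⟨N, ⟨e.symm⟩⟩
  let G := Functor.essImage.liftFunctor T (DerivedCategory.singleFunctor B 0) hS
  let e : G ⋙ DerivedCategory.singleFunctor B 0 ≅ T := Functor.essImage.liftFunctorCompIso T (DerivedCategory.singleFunctor B 0) hS
  let a : T ⋙ DerivedCategory.homologyFunctor B 0 ≅ G :=
    Functor.isoWhiskerRight e.symm (DerivedCategory.homologyFunctor B 0) ≪≫
      Functor.isoWhiskerLeft G (DerivedCategory.singleFunctorCompHomologyFunctorIso B 0) ≪≫ G.rightUnitor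
  exact ⟨e.symm ≪≫ Functor.isoWhiskerRight a.symm (DerivedCategory.singleFunctor B 0)⟩

end

section

variable {C : Type u'} [Category.{v'} C] {X Y : Scheme.{u}} (q : X ⟶ Y) [DCoh.HasRpush q]

/-- `Rq_*` of a functor with acyclic values. -/
theorem nonempty_push (E : C ⥤ X.Modules) [HasInjectiveResolutions X.Modules]
    (h : ∀ (M : C) (n : ℕ), 0 < n → IsZero ((Coh.Rpush q n).obj (E.obj M))) :
    Nonempty (E ⋙ DerivedCategory.singleFunctor X.Modules 0 ⋙ DCoh.Rpush q ≅
      (E ⋙ Coh.push q) ⋙ DerivedCategory.singleFunctor Y.Modules 0) := by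
  let T : C ⥤ DCoh.D Y := E ⋙ DerivedCategory.singleFunctor X.Modules 0 ⋙ DCoh.Rpush q
  have hT : ∀ M, (T.obj M).IsLE 0 ∧ (T.obj M).IsGE 0 := by
    intro M
    have h1 := PerfC.RpushTrunc.isGE_Rpush q (DCoh.inD X (E.obj M)) 0
    refine ⟨(DerivedCategory.isLE_iff _ 0).2 fun i hi => ?_, h1⟩
    obtain ⟨n, rfl⟩ := Int.eq_ofNat_of_zero_le hi.le
    exact (h M n (by simpa using hi)).of_iso (PerfC.RpushSingle.iso q n (E.obj M))
  obtain ⟨c⟩ := nonempty_conc T hT
  let a : T ⋙ DerivedCategory.homologyFunctor Y.Modules 0 ≅ E ⋙ Coh.push q :=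
    Functor.isoWhiskerLeft E (PerfC.RpushSingle.natIso q 0 ≪≫ Functor.rightDerivedZeroIsoSelf (Coh.push q))
  exact ⟨c ≪≫ Functor.isoWhiskerRight a (DerivedCategory.singleFunctor Y.Modules 0)⟩

end

section

variable {X Y : Scheme.{u}} (q : X ⟶ Y)

/-- A closed subscheme whose underlying set lies in a closed subset finite over `Y` is finite over `Y`. -/
theorem isFinite_of_range_subset [LocallyOfFiniteType q] (Z : Set X) (hZ : IsClosed Z)
    [IsFinite ((Scheme.IdealSheafData.vanishingIdeal ⟨Z, hZ⟩).subschemeι ≫ q)] {T : Scheme.{u}} (i : T ⟶ X)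
    [IsClosedImmersion i] (hi : Set.range i ⊆ Z) : IsFinite (i ≫ q) := by
  have h1 : ClSub.IsProperOver q Z := ⟨hZ, inferInstance⟩
  have h2 : ClSub.IsProperOver q (Set.range i) := isProperOver_subset q h1 i.isClosedEmbedding.isClosed_range hi
  have h3 : IsProper (i ≫ q) := isProper_closedImmersion q _ h2 i rfl
  have h4 : LocallyQuasiFinite (i ≫ q) := by
    refine LocallyQuasiFinite.of_finite_preimage_singleton _ fun y => ?_
    have h5 : ((redι Z hZ ≫ q) ⁻¹' {y}).Finite := (redι Z hZ ≫ q).finite_preimage_singleton y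
    refine Set.Finite.of_finite_image (f := i) ((h5.image (redι Z hZ)).subset ?_) i.isClosedEmbedding.injective.injOn
    rintro _ ⟨t, ht, rfl⟩
    have h6 : i t ∈ Set.range (redι Z hZ) := by
      rw [range_redι]
      exact hi ⟨t, rfl⟩
    obtain ⟨z, hz⟩ := h6
    refine ⟨z, ?_, hz⟩
    have h7 : (i ≫ q) t = y := ht
    rw [Scheme.Hom.comp_apply] at h7
    change (redι Z hZ ≫ q) z = y
    rw [Scheme.Hom.comp_apply, hz, h7]
  exact IsFinite.of_isProper_of_locallyQuasiFinite _

/-- Higher direct images of a coherent module with support finite over `Y` vanish. -/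
theorem isZero_Rpush [LocallyOfFiniteType q] [HasInjectiveResolutions X.Modules] (Z : Set X) (hZ : IsClosed Z)
    [IsFinite ((Scheme.IdealSheafData.vanishingIdeal ⟨Z, hZ⟩).subschemeι ≫ q)] (E : X.Modules) (hE : Coh.IsCoh E)
    (hs : CohB1.support E ⊆ Z) (n : ℕ) (hn : 0 < n) : IsZero ((Coh.Rpush q n).obj E) := by
  let i := (FormalA.AnnIdeal.annIdeal E hE.1 hE.2).subschemeι
  have hi : Set.range i ⊆ Z := by
    rw [FormalA.AnnIdeal.range_subschemeι]
    exact hs
  have h1 : IsFinite (i ≫ q) := isFinite_of_range_subset q Z hZ i hi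
  have := Dcoh.DerSch.hasInjectiveResolutions (FormalA.AnnIdeal.annIdeal E hE.1 hE.2).subscheme
  obtain ⟨e⟩ := FormalA.RpushFlasque.nonempty_rpush_comp_iso i q n ((Scheme.Modules.pullback i).obj E)
  exact (PerfC.AffPushD.isZero_Rpush (i ≫ q) _ (FormalB.PullCoh.isCoh_pullback i hE).1 n hn).of_iso
    ((Coh.Rpush q n).mapIso (FormalA.AnnIdeal.pushPullIso E hE.1 hE.2).symm ≪≫ e)

end

section

variable {X Y P : Scheme.{u}} (p : P ⟶ X) (q : P ⟶ Y) (K : P.Modules)

theorem isCoh_tens (hK : Coh.IsCoh K) (M : X.Modules) (hM : Coh.IsCoh M) :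
    Coh.IsCoh ((G p K).obj M) ∧ CohB1.support ((G p K).obj M) ⊆ CohB1.support K := by
  have h1 := FormalB.PullCoh.isCoh_pullback p hM
  have h2 : Coh.IsQCoh ((Scheme.Modules.pullback p).obj M) := h1.1
  have h3 : Coh.IsQCoh K := hK.1
  exact ⟨⟨(S2297.result ((Scheme.Modules.pullback p).obj M) K).1,
    (S2297.result ((Scheme.Modules.pullback p).obj M) K).2 h1.2 hK.2⟩,
    fun x hx => ((Ega1.SuppTensorMod.mem_support_tensorMod _ _ h1.2 hK.2 x).1 hx).2⟩

/-- `Φ_K(M[0]) ≅ (q_*(p^* M ⊗ K))[0]` naturally in the coherent module `M`. -/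
theorem nonempty_iso [LocallyOfFiniteType q] [DCoh.HasLpull p] [DCoh.HasRpush q] [DCoh.HasLTensorMod K]
    (hK : Coh.IsCoh K) (hf : FlatMod.IsFlatOver p K)
    (hs : ∃ hZ : IsClosed (CohB1.support K),
        IsFinite ((Scheme.IdealSheafData.vanishingIdeal ⟨CohB1.support K, hZ⟩).subschemeι ≫ q)) :
    Nonempty (ObjectProperty.ι (fun M : X.Modules => Coh.IsCoh M) ⋙
        DerivedCategory.singleFunctor X.Modules 0 ⋙ DCoh.Lpull p ⋙ DCoh.LTensorMod K ⋙ DCoh.Rpush q ≅
      (ObjectProperty.ι (fun M : X.Modules => Coh.IsCoh M) ⋙ Scheme.Modules.pullback p ⋙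
          DCoh.tensorRightMod K ⋙ Coh.push q) ⋙ DerivedCategory.singleFunctor Y.Modules 0) := by
  obtain ⟨hZ, h⟩ := hs
  have := Dcoh.DerSch.hasInjectiveResolutions P
  obtain ⟨a⟩ := SibTen.nonempty_single p K hf
  obtain ⟨b⟩ := nonempty_push q (ObjectProperty.ι (fun M : X.Modules => Coh.IsCoh M) ⋙ G p K)
    (fun M n hn => isZero_Rpush q _ hZ _ (isCoh_tens p K hK M.obj M.property).1
      (isCoh_tens p K hK M.obj M.property).2 n hn)
  exact ⟨Functor.isoWhiskerLeft (ObjectProperty.ι (fun M : X.Modules => Coh.IsCoh M))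
    (Functor.isoWhiskerRight a (DCoh.Rpush q)) ≪≫ b⟩

end

end K352.SibPush
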