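import Groth.Agent.Models2.FMFlat

/-!
# `Lf^*(-) ⊗^L K` for `K` flat over the base, as a functor

`nonempty_natIso`: if `K` is flat over `X` (`f : Z ⟶ X`) then `Lf^*(-) ⊗^L K` is the functor on derived categories induced
by the exact functor `M ↦ f^* M ⊗ K`; `nonempty_single`: in particular on modules in degree `0`.
-/

set_option autoImplicit false

universe u

open CategoryTheory CategoryTheory.Limits AlgebraicGeometry

attribute [local instance] HasDerivedCategory.standard

namespace K352.SibTen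

open Groth.Agent Groth.Agent.Dcoh Groth.Agent.Models2.FMExact Groth.Agent.Models2.FMFlat

variable {X Z : Scheme.{u}} (f : Z ⟶ X) (K : Z.Modules) [DCoh.HasLpull f] [DCoh.HasLTensorMod K]

/-- The counit of `Lf^*`. -/
noncomputable abbrev pullCounit : DerivedCategory.Qh ⋙ DCoh.Lpull f ⟶ DCoh.pullKh f :=
  (DCoh.pullKh f).totalLeftDerivedCounit DerivedCategory.Qh (HomotopyCategory.quasiIso X.Modules (ComplexShape.up ℤ))

lemma chase {𝒜 ℬ : Type*} [Category* 𝒜] [Category* ℬ] (L : 𝒜 ⥤ ℬ) {a b a' b' : 𝒜} {g : a ⟶ b} {c : b ⟶ b'}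
    {c' : a ⟶ a'} {g' : a' ⟶ b'} (h1 : g ≫ c = c' ≫ g') {x y : ℬ} {d : L.obj b' ⟶ y} {d' : L.obj a' ⟶ x}
    {g'' : x ⟶ y} (h2 : L.map g' ≫ d = d' ≫ g'') : L.map g ≫ (L.map c ≫ d) = (L.map c' ≫ d') ≫ g'' := by
  rw [← Category.assoc, ← L.map_comp, h1, L.map_comp, Category.assoc, h2, Category.assoc]

lemma chase2 {𝒜 : Type*} [Category* 𝒜] {u v w x y z : 𝒜} {a : u ⟶ v} {b : v ⟶ w} {c : u ⟶ x} {d : x ⟶ w}
    (h1 : a ≫ b = c ≫ d) {e : w ⟶ z} {f : x ⟶ y} {g : y ⟶ z} (h2 : d ≫ e = f ≫ g) :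
    a ≫ (b ≫ e) = (c ≫ f) ≫ g := by
  rw [← Category.assoc, h1, Category.assoc, h2, Category.assoc]

/-- The comparison on complexes. -/
noncomputable def comp (C : CochainComplex X.Modules ℤ) :
    (DCoh.Lpull f ⋙ DCoh.LTensorMod K).obj (DerivedCategory.Q.obj C) ⟶
      DerivedCategory.Q.obj (((G f K).mapHomologicalComplex (ComplexShape.up ℤ)).obj C) :=
  (DCoh.LTensorMod K).map (LDer.counitQ (DCoh.Lpull f) (pullCounit f) C) ≫
    LDer.counitQ (DCoh.LTensorMod K) (LTMod.counit K)
      (((Scheme.Modules.pullback f).mapHomologicalComplex (ComplexShape.up ℤ)).obj C)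

lemma comp_naturality {C D : CochainComplex X.Modules ℤ} (g : C ⟶ D) :
    (DCoh.Lpull f ⋙ DCoh.LTensorMod K).map (DerivedCategory.Q.map g) ≫ comp f K D =
      comp f K C ≫ DerivedCategory.Q.map (((G f K).mapHomologicalComplex (ComplexShape.up ℤ)).map g) := by
  have h1 := LDer.counitQ_naturality (DCoh.Lpull f) (pullCounit f) g
  have h2 := LDer.counitQ_naturality (DCoh.LTensorMod K) (LTMod.counit K)
    (((Scheme.Modules.pullback f).mapHomologicalComplex (ComplexShape.up ℤ)).map g)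
  exact chase (DCoh.LTensorMod K) h1 h2

lemma isIso_comp {P : CochainComplex X.Modules ℤ} (hP : DCoh.IsKFlat P) : IsIso (comp f K P) := by
  have hP' := Groth.Agent.PerfB.StalkKFlat.isKFlat_pullback f P hP
  have h1 : IsIso (LDer.counitQ (DCoh.Lpull f) (pullCounit f) P) :=
    LDer.isIso_counitQ (adapted_pullback f) (DCoh.Lpull f) (pullCounit f) hP
  have h2 := LDer.isIso_counitQ (LTMod.adapted K) (DCoh.LTensorMod K) (LTMod.counit K) hP'
  exact IsIso.comp_isIso' inferInstance h2

/-- `Lf^*(-) ⊗^L K ≅ D(f^*(-) ⊗ K)` for `K` flat over the base. -/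
theorem nonempty_natIso (hK : FlatMod.IsFlatOver f K) :
    haveI := preservesFiniteLimits_G f K hK
    Nonempty (DCoh.Lpull f ⋙ DCoh.LTensorMod K ≅ (G f K).mapDerivedCategory) := by
  have := preservesFiniteLimits_G f K hK
  let τ : DerivedCategory.Q ⋙ (DCoh.Lpull f ⋙ DCoh.LTensorMod K) ⟶ DerivedCategory.Q ⋙ (G f K).mapDerivedCategory :=
    { app := fun C => comp f K C ≫ (G f K).mapDerivedCategoryFactors.inv.app C
      naturality := fun C D g => by
        have h1 := comp_naturality f K g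
        have h2 := (G f K).mapDerivedCategoryFactors.inv.naturality g
        exact chase2 h1 h2 }
  let σ := Localization.liftNatTrans DerivedCategory.Q (HomologicalComplex.quasiIso X.Modules (ComplexShape.up ℤ))
    _ _ (DCoh.Lpull f ⋙ DCoh.LTensorMod K) (G f K).mapDerivedCategory τ
  have hσ : ∀ C, σ.app (DerivedCategory.Q.obj C) = τ.app C := fun C => by
    rw [Localization.liftNatTrans_app]
    exact (Category.id_comp _).trans (Category.comp_id _)
  have h1 : ∀ P : CochainComplex X.Modules ℤ, DCoh.IsKFlat P → IsIso (σ.app (DerivedCategory.Q.obj P)) := by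
    intro P hP
    rw [hσ]
    have := isIso_comp f K hP
    exact IsIso.comp_isIso' this inferInstance
  have h2 : ∀ M : DCoh.D X, IsIso (σ.app M) := by
    intro M
    obtain ⟨P, hP, ⟨e⟩⟩ := LDer.exists_iso (adapted_pullback f) M
    have := h1 P hP
    exact (NatTrans.isIso_app_iff_of_iso σ e).1 this
  have := NatIso.isIso_of_isIso_app σ
  exact ⟨asIso σ⟩

/-- `Lf^*(M[0]) ⊗^L K ≅ (f^*M ⊗ K)[0]`, naturally in `M`, for `K` flat over the base. -/
theorem nonempty_single (hK : FlatMod.IsFlatOver f K) :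
    Nonempty (DerivedCategory.singleFunctor X.Modules 0 ⋙ DCoh.Lpull f ⋙ DCoh.LTensorMod K ≅
      G f K ⋙ DerivedCategory.singleFunctor Z.Modules 0) := by
  have := preservesFiniteLimits_G f K hK
  obtain ⟨e⟩ := nonempty_natIso f K hK
  exact ⟨Functor.isoWhiskerLeft _ e ≪≫ (G f K).mapDerivedCategorySingleFunctor 0⟩

end K352.SibTen
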