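import Groth.Agent.DEquiv.K352.Sky
import Groth.Agent.Pic13.H947.AbsInduction

/-!
# Zero-dimensional quotients of coherent modules

A coherent module `N'` on a Noetherian scheme containing a zero-dimensional submodule `N` has a zero-dimensional
quotient `N''` such that `N ⟶ N''` is still a monomorphism (Artin-Rees).
-/

set_option autoImplicit false
universe u
open CategoryTheory CategoryTheory.Limits AlgebraicGeometry
attribute [local instance] HasDerivedCategory.standard

namespace K352.ZD

open Groth.Agent K352.Sky

variable {X : Scheme.{u}} [IsNoetherian X]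

theorem exists_quot {N N' : X.Modules} (j : N ⟶ N') [Mono j] (hN : IsZD N) (hN' : Coh.IsCoh N') :
    ∃ (N'' : X.Modules) (q : N' ⟶ N''), Epi q ∧ IsZD N'' ∧ Mono (j ≫ q) := by
  have hcl : IsClosed (CohB1.support N) := by
    rw [← Set.biUnion_of_singleton (CohB1.support N)]
    exact hN.fin.isClosed_biUnion fun x hx => hN.closed x hx
  obtain ⟨N'', q, h2, h1, h3, h4⟩ := Pic13.H947.AbsInduction.exists_quotient ⟨CohB1.support N, hcl⟩ j hN.isCoh hN'
    subset_rfl
  exact ⟨N'', q, h2, hN.of_subset h1 h3, h4⟩

end K352.ZD
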